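/-
Involutions and dihedral subgroups: basic facts.

Main results (namespace `Cfsg.Agent.Involution`):
* `inverts_mul_left`, `inverts_zpow`, `mem_closure_pair_iff`, `not_mem_zpowers_mul`
* `dihedralEquiv` : ⟨x, y⟩ ≃* DihedralGroup (orderOf (x*y))
* `exists_conj_of_odd`, `exists_commuting_involution`, `exists_conj_mem_two_group`
-/
import Cfsg.Agent.EqLemmas

namespace Cfsg.Agent.Involution

variable {G : Type*} [Group G]

theorem mul_self {x : G} (hx : orderOf x = 2) : x * x = 1 := by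
  rw [← sq, ← hx]; exact pow_orderOf_eq_one x

theorem inv_eq {x : G} (hx : orderOf x = 2) : x⁻¹ = x :=
  inv_eq_of_mul_eq_one_right (mul_self hx)

theorem ne_one {x : G} (hx : orderOf x = 2) : x ≠ 1 := by
  rintro rfl; simp at hx

theorem orderOf_of_sq {x : G} (h : x * x = 1) (h1 : x ≠ 1) : orderOf x = 2 :=
  orderOf_eq_prime (by rw [sq, h]) h1

theorem orderOf_eq_two_iff {x : G} : orderOf x = 2 ↔ x ≠ 1 ∧ x * x = 1 :=
  ⟨fun h => ⟨ne_one h, mul_self h⟩, fun h => orderOf_of_sq h.2 h.1⟩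

theorem orderOf_conj (g x : G) : orderOf (g * x * g⁻¹) = orderOf x :=
  orderOf_injective (MulAut.conj g).toMonoidHom (MulAut.conj g).injective x

theorem orderOf_eq_of_isConj {x y : G} (h : IsConj x y) : orderOf x = orderOf y := by
  obtain ⟨c, rfl⟩ := isConj_iff.1 h
  exact (orderOf_conj c x).symm

theorem mem_centralizer_singleton {g x : G} :
    g ∈ Subgroup.centralizer ({x} : Set G) ↔ g * x = x * g :=
  Subgroup.mem_centralizer_singleton_iff

theorem mem_centralizer_iff_commute {g x : G} :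
    g ∈ Subgroup.centralizer ({x} : Set G) ↔ Commute g x :=
  mem_centralizer_singleton

/-- If `t` inverts `r`, it inverts every power. -/
theorem inverts_zpow {t r : G} (h : t * r * t⁻¹ = r⁻¹) (k : ℤ) :
    t * r ^ k * t⁻¹ = (r ^ k)⁻¹ := by
  rw [← conj_zpow, h, inv_zpow]

theorem inverts_pow {t r : G} (h : t * r * t⁻¹ = r⁻¹) (k : ℕ) :
    t * r ^ k * t⁻¹ = (r ^ k)⁻¹ := by
  rw [← conj_pow, h, inv_pow]

section pair
variable {x y : G} (hx : orderOf x = 2) (hy : orderOf y = 2)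
include hx hy

theorem inv_mul_eq : (x * y)⁻¹ = y * x := by
  rw [mul_inv_rev, inv_eq hx, inv_eq hy]

theorem inverts_mul_left : x * (x * y) * x⁻¹ = (x * y)⁻¹ := by
  rw [inv_mul_eq hx hy, inv_eq hx, ← mul_assoc, mul_self hx, one_mul]

theorem inverts_mul_right : y * (x * y) * y⁻¹ = (x * y)⁻¹ := by
  rw [inv_mul_eq hx hy, inv_eq hy, mul_assoc, mul_assoc x, mul_self hy, mul_one]

theorem left_mul_mul_left : x * (x * y) = y := by rw [← mul_assoc, mul_self hx, one_mul]

theorem zpow_mul_left (k : ℤ) : (x * y) ^ k * x = x * (x * y) ^ (-k) := by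
  have h := inverts_zpow (inverts_mul_left hx hy) (-k)
  rw [zpow_neg, inv_inv] at h
  calc (x * y) ^ k * x = (x * ((x * y) ^ k)⁻¹ * x⁻¹) * x := by rw [h]
    _ = x * (x * y) ^ (-k) := by rw [zpow_neg]; group

theorem mul_zpow_sq (k : ℤ) : (x * (x * y) ^ k) * (x * (x * y) ^ k) = 1 := by
  calc (x * (x * y) ^ k) * (x * (x * y) ^ k) = x * ((x * y) ^ k * x) * (x * y) ^ k := by group
    _ = (x * x) * ((x * y) ^ (-k) * (x * y) ^ k) := by rw [zpow_mul_left hx hy]; group
    _ = 1 := by rw [mul_self hx, ← zpow_add, neg_add_cancel, zpow_zero, one_mul]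

theorem mem_closure_pair_iff {d : G} :
    d ∈ Subgroup.closure ({x, y} : Set G) ↔
      ∃ k : ℤ, d = (x * y) ^ k ∨ d = x * (x * y) ^ k := by
  constructor
  · intro h
    induction h using Subgroup.closure_induction with
    | mem a ha =>
      rcases ha with rfl | rfl
      · exact ⟨0, Or.inr (by simp)⟩
      · exact ⟨1, Or.inr (by rw [zpow_one]; exact (left_mul_mul_left hx hy).symm)⟩
    | one => exact ⟨0, Or.inl (by simp)⟩
    | mul a b _ _ iha ihb =>
      obtain ⟨k, rfl | rfl⟩ := iha <;> obtain ⟨l, rfl | rfl⟩ := ihb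
      · exact ⟨k + l, Or.inl (zpow_add _ _ _).symm⟩
      · exact ⟨-k + l, Or.inr (by rw [zpow_add, ← mul_assoc, zpow_mul_left hx hy, mul_assoc])⟩
      · exact ⟨k + l, Or.inr (by rw [mul_assoc, zpow_add])⟩
      · refine ⟨-k + l, Or.inl ?_⟩
        calc x * (x * y) ^ k * (x * (x * y) ^ l) = x * ((x * y) ^ k * x) * (x * y) ^ l := by group
          _ = (x * x) * ((x * y) ^ (-k) * (x * y) ^ l) := by rw [zpow_mul_left hx hy]; group
          _ = (x * y) ^ (-k + l) := by rw [mul_self hx, one_mul, ← zpow_add]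
    | inv a _ iha =>
      obtain ⟨k, rfl | rfl⟩ := iha
      · exact ⟨-k, Or.inl (zpow_neg _ _).symm⟩
      · exact ⟨k, Or.inr (inv_eq_of_mul_eq_one_right (mul_zpow_sq hx hy k))⟩
  · have hxm : x ∈ Subgroup.closure ({x, y} : Set G) := Subgroup.subset_closure (by simp)
    have hym : y ∈ Subgroup.closure ({x, y} : Set G) := Subgroup.subset_closure (by simp)
    rintro ⟨k, rfl | rfl⟩
    · exact zpow_mem (mul_mem hxm hym) k
    · exact mul_mem hxm (zpow_mem (mul_mem hxm hym) k)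

theorem not_mem_zpowers_mul (hxy : x ≠ y) : x ∉ Subgroup.zpowers (x * y) := by
  intro h
  obtain ⟨k, hk⟩ := Subgroup.mem_zpowers_iff.1 h
  have hc0 : Commute ((x * y) ^ k) (x * y) := Commute.zpow_self (x * y) k
  rw [hk] at hc0
  have hc : x * (x * y) = (x * y) * x := hc0.eq
  have h1 : (x * y) * (x * y) = 1 := by
    have h2 := inverts_mul_left hx hy
    rw [hc, mul_inv_cancel_right] at h2
    nth_rewrite 1 [h2]; exact inv_mul_cancel _
  rcases Int.even_or_odd k with ⟨m, hm⟩ | ⟨m, hm⟩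
  · apply ne_one hx
    rw [← hk, hm, ← two_mul, zpow_mul, zpow_two, h1, one_zpow]
  · apply ne_one hy
    have hxx : x * y = x := by
      rw [hm, zpow_add_one, zpow_mul, zpow_two, h1, one_zpow, one_mul] at hk; exact hk
    simpa using hxx

theorem mul_zpow_ne_one (hxy : x ≠ y) (k : ℤ) : x * (x * y) ^ k ≠ 1 := by
  intro h
  apply not_mem_zpowers_mul hx hy hxy
  rw [mul_eq_one_iff_eq_inv] at h
  exact Subgroup.mem_zpowers_iff.2 ⟨-k, by rw [zpow_neg]; exact h.symm⟩

theorem orderOf_mul_zpow (hxy : x ≠ y) (k : ℤ) : orderOf (x * (x * y) ^ k) = 2 :=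
  orderOf_of_sq (mul_zpow_sq hx hy k) (mul_zpow_ne_one hx hy hxy k)

/-- The conjugates of `x` inside ⟨x, y⟩. -/
theorem conj_left_zpow (k : ℤ) :
    (x * y) ^ k * x * ((x * y) ^ k)⁻¹ = x * (x * y) ^ (-(2 * k)) := by
  rw [zpow_mul_left hx hy, ← zpow_neg, mul_assoc, ← zpow_add, show -k + -k = -(2 * k) by ring]

theorem conj_left_mul_zpow (k : ℤ) :
    (x * (x * y) ^ k) * x * (x * (x * y) ^ k)⁻¹ = x * (x * y) ^ (2 * k) := by
  rw [inv_eq_of_mul_eq_one_right (mul_zpow_sq hx hy k), mul_assoc x ((x * y) ^ k),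
    zpow_mul_left hx hy, ← mul_assoc x x, mul_self hx, one_mul, ← mul_assoc,
    show (x * y) ^ (-k) * x = x * (x * y) ^ k by rw [zpow_mul_left hx hy, neg_neg],
    mul_assoc, ← zpow_add, two_mul]

theorem exists_conj_eq_mul_zpow_iff (j : ℤ) :
    (∃ d ∈ Subgroup.closure ({x, y} : Set G), d * x * d⁻¹ = x * (x * y) ^ j) ↔
      ∃ k : ℤ, (orderOf (x * y) : ℤ) ∣ 2 * k - j := by
  constructor
  · rintro ⟨d, hd, hd'⟩
    obtain ⟨k, rfl | rfl⟩ := (mem_closure_pair_iff hx hy).1 hd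
    · rw [conj_left_zpow hx hy] at hd'
      exact ⟨-k, by
        rw [show 2 * -k = -(2 * k) by ring]
        exact orderOf_dvd_sub_iff_zpow_eq_zpow.2 (mul_left_cancel hd')⟩
    · rw [conj_left_mul_zpow hx hy] at hd'
      exact ⟨k, orderOf_dvd_sub_iff_zpow_eq_zpow.2 (mul_left_cancel hd')⟩
  · rintro ⟨k, hk⟩
    refine ⟨x * (x * y) ^ k, (mem_closure_pair_iff hx hy).2 ⟨k, Or.inr rfl⟩, ?_⟩
    rw [conj_left_mul_zpow hx hy, orderOf_dvd_sub_iff_zpow_eq_zpow.1 hk]

/-- Two involutions with product of odd order are conjugate inside the subgroup they generate. -/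
theorem exists_conj_of_odd (hodd : Odd (orderOf (x * y))) :
    ∃ d ∈ Subgroup.closure ({x, y} : Set G), d * x * d⁻¹ = y := by
  obtain ⟨m, hm⟩ := hodd
  have := (exists_conj_eq_mul_zpow_iff hx hy 1).2 ⟨m + 1, 1, by rw [hm]; push_cast; ring⟩
  rwa [zpow_one, left_mul_mul_left hx hy] at this

theorem isConj_of_odd (hodd : Odd (orderOf (x * y))) : IsConj x y := by
  obtain ⟨d, -, hd⟩ := exists_conj_of_odd hx hy hodd
  exact isConj_iff.2 ⟨d, hd⟩

theorem even_of_not_isConj (h : ¬ IsConj x y) : Even (orderOf (x * y)) := by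
  rcases Nat.even_or_odd (orderOf (x * y)) with he | ho
  · exact he
  · exact absurd (isConj_of_odd hx hy ho) h

theorem half_pow_commute [Finite G] (heven : Even (orderOf (x * y))) :
    orderOf ((x * y) ^ (orderOf (x * y) / 2)) = 2 ∧
    Commute ((x * y) ^ (orderOf (x * y) / 2)) x ∧
    Commute ((x * y) ^ (orderOf (x * y) / 2)) y := by
  have hpos : 0 < orderOf (x * y) := orderOf_pos _
  obtain ⟨m, hm⟩ := heven
  have hdiv : orderOf (x * y) / 2 = m := by omega
  rw [hdiv]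
  have hz : (x * y) ^ m * (x * y) ^ m = 1 := by rw [← pow_add, ← hm, pow_orderOf_eq_one]
  have hne : (x * y) ^ m ≠ 1 := pow_ne_one_of_lt_orderOf (by omega) (by omega)
  have hc : ∀ t : G, t * (x * y) * t⁻¹ = (x * y)⁻¹ → Commute ((x * y) ^ m) t := by
    intro t ht
    have h := inverts_pow ht m
    rw [inv_eq_of_mul_eq_one_right hz, mul_inv_eq_iff_eq_mul] at h
    exact h.symm
  exact ⟨orderOf_of_sq hz hne, hc x (inverts_mul_left hx hy), hc y (inverts_mul_right hx hy)⟩

/-- Non-conjugate involutions both commute with some involution. -/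
theorem exists_commuting_involution [Finite G] (heven : Even (orderOf (x * y))) :
    ∃ z : G, orderOf z = 2 ∧ Commute z x ∧ Commute z y ∧ z ∈ Subgroup.zpowers (x * y) :=
  ⟨_, (half_pow_commute hx hy heven).1, (half_pow_commute hx hy heven).2.1,
    (half_pow_commute hx hy heven).2.2, pow_mem (Subgroup.mem_zpowers _) _⟩

theorem card_closure_pair [Finite G] (hxy : x ≠ y) :
    ∃ e : DihedralGroup (orderOf (x * y)) ≃* ↥(Subgroup.closure ({x, y} : Set G)),
      (∀ i, (e (.r i) : G) = (x * y) ^ i.val) ∧ ∀ i, (e (.sr i) : G) = x * (x * y) ^ i.val := by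
  haveI : NeZero (orderOf (x * y)) := ⟨(orderOf_pos _).ne'⟩
  have hadd : ∀ i j : ZMod (orderOf (x * y)),
      (x * y) ^ (i + j).val = (x * y) ^ i.val * (x * y) ^ j.val := fun i j => by
    rw [ZMod.val_add, pow_mod_orderOf, pow_add]
  have hsub : ∀ i j : ZMod (orderOf (x * y)),
      (x * y) ^ (j - i).val = ((x * y) ^ i.val)⁻¹ * (x * y) ^ j.val := fun i j => by
    rw [eq_inv_mul_iff_mul_eq, ← hadd, add_sub_cancel]
  have hcomm : ∀ k : ℕ, (x * y) ^ k * x = x * ((x * y) ^ k)⁻¹ := fun k => by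
    have h := zpow_mul_left hx hy (k : ℤ)
    rwa [zpow_neg, zpow_natCast] at h
  let f0 : DihedralGroup (orderOf (x * y)) → G := fun a => match a with
    | .r i => (x * y) ^ i.val
    | .sr i => x * (x * y) ^ i.val
  have hmul : ∀ a b, f0 (a * b) = f0 a * f0 b := by
    rintro (i | i) (j | j)
    · simpa [f0] using hadd i j
    · simp only [DihedralGroup.r_mul_sr, f0]
      rw [hsub, ← mul_assoc _ x, hcomm, mul_assoc]
    · simp only [DihedralGroup.sr_mul_r, f0]
      rw [hadd, mul_assoc x]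
    · simp only [DihedralGroup.sr_mul_sr, f0]
      rw [hsub, mul_assoc x ((x * y) ^ i.val), ← mul_assoc ((x * y) ^ i.val) x, hcomm,
        mul_assoc x _ ((x * y) ^ j.val), ← mul_assoc x x, mul_self hx, one_mul]
  let f : DihedralGroup (orderOf (x * y)) →* ↥(Subgroup.closure ({x, y} : Set G)) :=
    MonoidHom.mk' (fun a => ⟨f0 a, by
      rcases a with i | i
      · exact (mem_closure_pair_iff hx hy).2 ⟨i.val, Or.inl (zpow_natCast _ _).symm⟩
      · exact (mem_closure_pair_iff hx hy).2 ⟨i.val, Or.inr (by rw [zpow_natCast])⟩⟩)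
      fun a b => Subtype.ext (hmul a b)
  have hinj : Function.Injective f := by
    rw [injective_iff_map_eq_one]
    intro a ha
    have ha' : f0 a = 1 := congrArg Subtype.val ha
    rcases a with i | i
    · have h0 : i.val = 0 :=
        Nat.eq_zero_of_dvd_of_lt (orderOf_dvd_iff_pow_eq_one.2 ha') (ZMod.val_lt i)
      rw [(ZMod.val_eq_zero i).1 h0]; rfl
    · have h1 := mul_zpow_ne_one hx hy hxy (i.val : ℤ)
      rw [zpow_natCast] at h1
      exact absurd ha' h1
  have hsurj : Function.Surjective f := by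
    rintro ⟨d, hd⟩
    have hv : ∀ k : ℤ, (x * y) ^ k =
        (x * y) ^ (((k % (orderOf (x * y) : ℤ)).toNat : ℕ) : ZMod (orderOf (x * y))).val := by
      intro k
      rw [ZMod.val_natCast, pow_mod_orderOf, ← zpow_natCast, Int.toNat_of_nonneg
        (Int.emod_nonneg _ (by exact_mod_cast (orderOf_pos (x * y)).ne')), zpow_mod_orderOf]
    obtain ⟨k, rfl | rfl⟩ := (mem_closure_pair_iff hx hy).1 hd
    · exact ⟨.r (((k % (orderOf (x * y) : ℤ)).toNat : ℕ)), Subtype.ext (hv k).symm⟩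
    · exact ⟨.sr (((k % (orderOf (x * y) : ℤ)).toNat : ℕ)),
        Subtype.ext (show x * _ = x * _ by rw [← hv k])⟩
  exact ⟨MulEquiv.ofBijective f ⟨hinj, hsurj⟩, fun i => rfl, fun i => rfl⟩

/-- `⟨x, y⟩` is dihedral of order `2 * orderOf (x * y)`. -/
noncomputable def dihedralEquiv [Finite G] (hxy : x ≠ y) :
    DihedralGroup (orderOf (x * y)) ≃* ↥(Subgroup.closure ({x, y} : Set G)) :=
  (card_closure_pair hx hy hxy).choose

/-- `y` is conjugate to an involution `x * (x*y)^m` generating, with `x`, a `2`-group. -/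
theorem exists_conj_mem_two_group [Finite G] :
    ∃ m : ℕ, Odd m ∧ IsConj y (x * (x * y) ^ m) ∧
      ∃ a : ℕ, ((x * y) ^ m) ^ (2 ^ a) = 1 ∧ orderOf (x * y) = 2 ^ a * m := by
  obtain ⟨a, m, hm, hn⟩ := Nat.exists_eq_two_pow_mul_odd (orderOf_pos (x * y)).ne'
  refine ⟨m, hm, ?_, a, by rw [← pow_mul, mul_comm, ← hn, pow_orderOf_eq_one], hn⟩
  obtain ⟨l, rfl⟩ := hm
  -- `y = x * r` is conjugate to `x * r^(2*l+1)` by a power of `r = x*y`
  refine isConj_iff.2 ⟨(x * y) ^ (-(l : ℤ)), ?_⟩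
  calc (x * y) ^ (-(l : ℤ)) * y * ((x * y) ^ (-(l : ℤ)))⁻¹
      = (x * y) ^ (-(l : ℤ)) * (x * (x * y)) * ((x * y) ^ (-(l : ℤ)))⁻¹ := by
        rw [left_mul_mul_left hx hy]
    _ = x * ((x * y) ^ (l : ℤ) * (x * y) * (x * y) ^ (l : ℤ)) := by
        rw [← mul_assoc _ x, zpow_mul_left hx hy, neg_neg]; group
    _ = x * (x * y) ^ (2 * l + 1) := by
        rw [zpow_natCast, ← pow_succ, ← pow_add]; ring_nf

/-- If `x * y` is a `2`-element then `⟨x, y⟩` is a `2`-group. -/
theorem isPGroup_closure_pair [Finite G] (hxy : x ≠ y) {a : ℕ} (h : (x * y) ^ (2 ^ a) = 1) :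
    IsPGroup 2 ↥(Subgroup.closure ({x, y} : Set G)) := by
  obtain ⟨j, -, hj⟩ := (Nat.dvd_prime_pow Nat.prime_two).1 (orderOf_dvd_iff_pow_eq_one.2 h)
  haveI : NeZero (orderOf (x * y)) := ⟨(orderOf_pos _).ne'⟩
  apply IsPGroup.of_card (n := j + 1)
  rw [Nat.card_congr (dihedralEquiv hx hy hxy).symm.toEquiv, DihedralGroup.nat_card, hj, pow_succ']

end pair

end Cfsg.Agent.Involution
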