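/-
Isolated involutions (up to, but not including, Glauberman's Z*-theorem).

Main results (namespace `Cfsg.Agent.Involution`):
* `eq_of_isolated` : an isolated involution of `P` is the only conjugate of itself in any 2-group through it
* `odd_of_isolated` : `u * v` has odd order for conjugates `v` of an isolated `u`
* `mod_four_of_isolated` : `s * t` has order twice an odd number if `s` is not conjugate to the isolated `t`
-/
import Cfsg.Agent.Lib.Involution.Basic

namespace Cfsg.Agent.Involution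

open scoped Pointwise

variable {G : Type*} [Group G] [Finite G]

theorem eq_of_isolated (P : Sylow 2 G) {u : G} (huP : u ∈ P)
    (hiso : ∀ g : G, g * u * g⁻¹ ∈ P → g * u * g⁻¹ = u) {Q : Subgroup G} (hQ : IsPGroup 2 Q)
    (huQ : u ∈ Q) {v : G} (hv : v ∈ Q) (hconj : IsConj u v) : v = u := by
  haveI : Fact (Nat.Prime 2) := ⟨Nat.prime_two⟩
  obtain ⟨R, hR⟩ := hQ.exists_le_sylow
  obtain ⟨g, rfl⟩ := MulAction.exists_smul_eq G P R
  have key : ∀ w, w ∈ ((g • P : Sylow 2 G) : Subgroup G) → g⁻¹ * w * g ∈ P := by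
    intro w hw
    obtain ⟨z, hz, rfl⟩ := hw
    simpa [mul_assoc] using hz
  obtain ⟨c, rfl⟩ := isConj_iff.1 hconj
  have h1 := hiso g⁻¹ (by rw [inv_inv]; exact key u (hR huQ))
  have h2 := hiso (g⁻¹ * c) (by
    rw [show g⁻¹ * c * u * (g⁻¹ * c)⁻¹ = g⁻¹ * (c * u * c⁻¹) * g by group]
    exact key _ (hR hv))
  calc c * u * c⁻¹ = g * (g⁻¹ * c * u * (g⁻¹ * c)⁻¹) * g⁻¹ := by group
    _ = g * (g⁻¹ * u * g⁻¹⁻¹) * g⁻¹ := by rw [h2, h1]
    _ = u := by group

theorem odd_of_isolated (P : Sylow 2 G) {u : G} (hu : orderOf u = 2) (huP : u ∈ P)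
    (hiso : ∀ g : G, g * u * g⁻¹ ∈ P → g * u * g⁻¹ = u) {v : G} (hv : orderOf v = 2)
    (hconj : IsConj u v) : Odd (orderOf (u * v)) := by
  by_cases huv : u = v
  · rw [← huv, mul_self hu, orderOf_one]; exact odd_one
  obtain ⟨m, hm, hc, a, ha, hn⟩ := exists_conj_mem_two_group hu hv
  have hw : orderOf (u * (u * v) ^ m) = 2 := by rw [← orderOf_eq_of_isConj hc, hv]
  by_cases hw' : u = u * (u * v) ^ m
  · have hd := orderOf_dvd_iff_pow_eq_one.2 (left_eq_mul.1 hw')
    exact Odd.of_dvd_nat hm hd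
  have hp := isPGroup_closure_pair hu hw hw' (a := a)
    (by rw [← mul_assoc, mul_self hu, one_mul, ha])
  exact absurd (eq_of_isolated P huP hiso hp (Subgroup.subset_closure (by simp))
    (Subgroup.subset_closure (by simp)) (hconj.trans hc)).symm hw'

theorem mod_four_of_isolated (P : Sylow 2 G) {t : G} (ht : orderOf t = 2) (htP : t ∈ P)
    (hiso : ∀ g : G, g * t * g⁻¹ ∈ P → g * t * g⁻¹ = t) {s : G} (hs : orderOf s = 2)
    (hns : ¬ IsConj s t) : orderOf (s * t) % 4 = 2 := by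
  have hcomm : orderOf (s * t) = orderOf (t * s) := by
    rw [← orderOf_inv, inv_mul_eq hs ht]
  rw [hcomm]
  have heven := even_of_not_isConj ht hs fun h => hns h.symm
  obtain ⟨m, hm, hc, a, ha, hn⟩ := exists_conj_mem_two_group ht hs
  have hw : orderOf (t * (t * s) ^ m) = 2 := by rw [← orderOf_eq_of_isConj hc, hs]
  have hne : t ≠ t * (t * s) ^ m := fun h => hns (by rw [← h] at hc; exact hc)
  have hp := isPGroup_closure_pair ht hw hne (a := a)
    (by rw [← mul_assoc, mul_self ht, one_mul, ha])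
  set w := t * (t * s) ^ m with hwdef
  have hfix := eq_of_isolated P htP hiso hp (Subgroup.subset_closure (by simp))
    (v := w * t * w⁻¹)
    (Subgroup.mul_mem _ (Subgroup.mul_mem _ (Subgroup.subset_closure (by simp))
      (Subgroup.subset_closure (by simp))) (Subgroup.inv_mem _ (Subgroup.subset_closure (by simp))))
    (isConj_iff.2 ⟨w, rfl⟩)
  have h2 : ((t * s) ^ m) * ((t * s) ^ m) = 1 := by
    rw [hwdef, show t * (t * s) ^ m * t * (t * (t * s) ^ m)⁻¹
      = t * ((t * s) ^ m * t * ((t * s) ^ m)⁻¹) * t⁻¹ by group, ← zpow_natCast,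
      conj_left_zpow ht hs, ← mul_assoc, mul_self ht, one_mul, mul_inv_eq_iff_eq_mul,
      mul_self ht] at hfix
    have h3 : (t * s) ^ (-(2 * (m : ℤ))) = 1 := hfix
    rw [zpow_neg, inv_eq_one, two_mul, zpow_add, zpow_natCast] at h3
    exact h3
  have hdvd : orderOf (t * s) ∣ m + m := by rw [orderOf_dvd_iff_pow_eq_one, pow_add, h2]
  obtain ⟨j, hj⟩ := hm
  obtain ⟨l, hl⟩ := heven
  obtain ⟨q, hq⟩ := hdvd
  rw [hl] at hq ⊢
  have hodd : Odd l := by
    refine Odd.of_dvd_nat (n := m) ⟨j, hj⟩ ⟨q, ?_⟩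
    nlinarith
  obtain ⟨i, hi⟩ := hodd
  omega

end Cfsg.Agent.Involution
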