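/-
Strongly embedded subgroups: basic facts.

Main results (namespace `Cfsg.Agent.Involution`, `H` strongly embedded in the finite group `G`):
* `mem_of_conj_mem`, `centralizer_le`, `exists_not_mem`, `isConj_involutions`, `exists_conj_in`
* `not_mem_mul_odd` (t ∈ H, u ∉ H involutions ⇒ tu of odd order), `sylow_le`, `normalizer_le`
* `isStronglyEmbedded_iff`, `isStronglyEmbedded_of_normalizers`
* coset action: `smul_mk_eq_iff`, `fixed_unique`, `exists_fixed`, `card_swapping`
* `isStronglyEmbedded_inter` : restriction to a subgroup.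
-/
import Cfsg.Agent.Lib.Involution.Basic

namespace Cfsg.Agent.Involution

open Cfsg
open scoped Pointwise

variable {G : Type*} [Group G] [Finite G] {H : Subgroup G}

omit [Finite G] in
theorem mem_map_conj_iff {g x : G} :
    x ∈ H.map (MulAut.conj g).toMonoidHom ↔ g⁻¹ * x * g ∈ H := by
  constructor
  · rintro ⟨y, hy, rfl⟩
    simpa [mul_assoc] using hy
  · intro h
    exact ⟨_, h, by simp [mul_assoc]⟩

theorem exists_involution_mem (heven : Even (Nat.card H)) : ∃ t ∈ H, orderOf t = 2 := by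
  haveI : Fact (Nat.Prime 2) := ⟨Nat.prime_two⟩
  obtain ⟨t, ht⟩ := exists_prime_orderOf_dvd_card' (G := H) 2 (even_iff_two_dvd.1 heven)
  exact ⟨t, t.2, by rw [orderOf_submonoid] at *; exact ht⟩

theorem odd_iff_no_involution (K : Subgroup G) :
    Odd (Nat.card K) ↔ ∀ t ∈ K, orderOf t ≠ 2 := by
  constructor
  · intro h t ht h2
    have h3 : orderOf t ∣ Nat.card K := Subgroup.orderOf_dvd_natCard K ht
    rw [h2] at h3
    obtain ⟨m, hm⟩ := h
    omega
  · intro h
    by_contra hc
    obtain ⟨t, ht, h2⟩ := exists_involution_mem (Nat.not_odd_iff_even.1 hc)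
    exact h t ht h2

theorem isStronglyEmbedded_iff_forall :
    IsStronglyEmbedded H ↔ H ≠ ⊤ ∧ Even (Nat.card H) ∧
      ∀ g t : G, orderOf t = 2 → t ∈ H → g * t * g⁻¹ ∈ H → g ∈ H := by
  constructor
  · rintro ⟨h1, h2, h3⟩
    refine ⟨h1, h2, fun g t ht htH hg => ?_⟩
    by_contra hgH
    exact (odd_iff_no_involution _).1 (h3 g hgH) _
      ⟨hg, mem_map_conj_iff.2 (by simpa [mul_assoc] using htH)⟩ (by rw [orderOf_conj, ht])
  · rintro ⟨h1, h2, h3⟩
    refine ⟨h1, h2, fun g hg => (odd_iff_no_involution _).2 ?_⟩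
    rintro s ⟨hs, hs'⟩ h
    refine hg (h3 g (g⁻¹ * s * g) ?_ (mem_map_conj_iff.1 hs') (by simpa [mul_assoc] using hs))
    have := orderOf_conj g⁻¹ s
    rw [inv_inv] at this
    rw [this, h]

variable (hH : IsStronglyEmbedded H)
include hH

theorem mem_of_conj_mem {g t : G} (ht : orderOf t = 2) (htH : t ∈ H) (hg : g * t * g⁻¹ ∈ H) :
    g ∈ H :=
  (isStronglyEmbedded_iff_forall.1 hH).2.2 g t ht htH hg

theorem centralizer_le {t : G} (ht : orderOf t = 2) (htH : t ∈ H) :
    Subgroup.centralizer ({t} : Set G) ≤ H := by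
  intro c hc
  refine mem_of_conj_mem hH ht htH ?_
  rw [mem_centralizer_singleton.1 hc, mul_inv_cancel_right]
  exact htH

theorem exists_not_mem : ∃ u : G, orderOf u = 2 ∧ u ∉ H := by
  obtain ⟨t, htH, ht⟩ := exists_involution_mem hH.2.1
  obtain ⟨g, -, hg⟩ := SetLike.exists_of_lt (lt_top_iff_ne_top.2 hH.1)
  exact ⟨g * t * g⁻¹, by rw [orderOf_conj, ht], fun h => hg (mem_of_conj_mem hH ht htH h)⟩

theorem not_mem_mul_odd {t u : G} (ht : orderOf t = 2) (htH : t ∈ H) (hu : orderOf u = 2)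
    (huH : u ∉ H) : Odd (orderOf (t * u)) := by
  rcases Nat.even_or_odd (orderOf (t * u)) with he | ho
  · exfalso
    obtain ⟨z, hz, hzt, hzu, -⟩ := exists_commuting_involution ht hu he
    have hzH : z ∈ H := centralizer_le hH ht htH (mem_centralizer_iff_commute.2 hzt)
    exact huH (centralizer_le hH hz hzH (mem_centralizer_iff_commute.2 hzu.symm))
  · exact ho

/-- A group with a strongly embedded subgroup has one class of involutions. -/
theorem isConj_involutions {s t : G} (hs : orderOf s = 2) (ht : orderOf t = 2) : IsConj s t := by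
  obtain ⟨u, hu, huH⟩ := exists_not_mem hH
  obtain ⟨t₀, ht₀H, ht₀⟩ := exists_involution_mem hH.2.1
  have key : ∀ a : G, orderOf a = 2 → IsConj a u := by
    intro a ha
    by_cases haH : a ∈ H
    · exact isConj_of_odd ha hu (not_mem_mul_odd hH ha haH hu huH)
    · exact (isConj_of_odd ht₀ ha (not_mem_mul_odd hH ht₀ ht₀H ha haH)).symm.trans
        (isConj_of_odd ht₀ hu (not_mem_mul_odd hH ht₀ ht₀H hu huH))
  exact (key s hs).trans (key t ht).symm

/-- The involutions of `H` form one `H`-class. -/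
theorem exists_conj_in {s t : G} (hs : orderOf s = 2) (hsH : s ∈ H) (ht : orderOf t = 2)
    (htH : t ∈ H) : ∃ h ∈ H, h * s * h⁻¹ = t := by
  obtain ⟨h, hh⟩ := isConj_iff.1 (isConj_involutions hH hs ht)
  exact ⟨h, mem_of_conj_mem hH hs hsH (hh ▸ htH), hh⟩

theorem exists_conj_mem {s : G} (hs : orderOf s = 2) : ∃ g : G, g⁻¹ * s * g ∈ H := by
  obtain ⟨t, htH, ht⟩ := exists_involution_mem hH.2.1
  obtain ⟨g, hg⟩ := isConj_iff.1 (isConj_involutions hH ht hs)
  exact ⟨g, by rw [← hg]; simpa [mul_assoc] using htH⟩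

omit hH in
/-- A 2-group through an involution `t ∈ H` lies in `H` if involution centralizers of `H` do. -/
theorem two_group_le_of_centralizer_le
    (hC : ∀ t ∈ H, orderOf t = 2 → Subgroup.centralizer ({t} : Set G) ≤ H)
    {Q : Subgroup G} (hQ : IsPGroup 2 Q) {t : G} (ht : orderOf t = 2) (htQ : t ∈ Q) (htH : t ∈ H) :
    Q ≤ H := by
  haveI : Fact (Nat.Prime 2) := ⟨Nat.prime_two⟩
  haveI : Nontrivial Q := ⟨⟨t, htQ⟩, 1, fun h => ne_one ht (congrArg Subtype.val h)⟩
  haveI := hQ.center_nontrivial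
  have heven : Even (Nat.card (Subgroup.center Q)) := by
    obtain ⟨n, hn⟩ := (hQ.to_subgroup (Subgroup.center Q)).exists_card_eq
    rcases n with _ | n
    · have := Finite.one_lt_card (α := Subgroup.center Q)
      rw [hn] at this; simp at this
    · exact ⟨2 ^ n, by rw [hn, pow_succ]; ring⟩
  obtain ⟨z, hzc, hz⟩ := exists_involution_mem heven
  have hzc' : ∀ q ∈ Q, q * (z : G) = (z : G) * q := fun q hq =>
    congrArg Subtype.val (Subgroup.mem_center_iff.1 hzc ⟨q, hq⟩)
  have hzH : (z : G) ∈ H := hC t htH ht (mem_centralizer_singleton.2 (hzc' t htQ).symm)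
  intro q hq
  exact hC z hzH (by rw [orderOf_submonoid]; exact hz) (mem_centralizer_singleton.2 (hzc' q hq))

theorem sylow_le (Q : Sylow 2 G) {t : G} (ht : orderOf t = 2) (htQ : t ∈ Q) (htH : t ∈ H) :
    (Q : Subgroup G) ≤ H :=
  two_group_le_of_centralizer_le (fun _ h1 h2 => centralizer_le hH h2 h1) Q.isPGroup' ht htQ htH

theorem normalizer_le {X : Subgroup G} (hX : X ≤ H) (heven : Even (Nat.card X)) :
    Subgroup.normalizer (X : Set G) ≤ H := by
  intro g hg
  obtain ⟨t, htX, ht⟩ := exists_involution_mem heven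
  exact mem_of_conj_mem hH ht (hX htX) (hX ((Subgroup.mem_normalizer_iff.1 hg t).1 htX))

/-- Restriction of a strongly embedded subgroup to a subgroup `K ⊄ H` meeting `H` in even order. -/
theorem isStronglyEmbedded_inter (K : Subgroup G) (hK : ¬ K ≤ H)
    {t : G} (ht : orderOf t = 2) (htK : t ∈ K) (htH : t ∈ H) :
    IsStronglyEmbedded (H.subgroupOf K) := by
  refine isStronglyEmbedded_iff_forall.2 ⟨?_, ?_, ?_⟩
  · rwa [Ne, Subgroup.subgroupOf_eq_top]
  · rw [even_iff_two_dvd]
    calc 2 = orderOf (⟨t, htK⟩ : K) := by rw [← orderOf_submonoid]; exact ht.symm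
      _ ∣ _ := Subgroup.orderOf_dvd_natCard _ (Subgroup.mem_subgroupOf.2 htH)
  · intro g s hs hsH hg
    exact Subgroup.mem_subgroupOf.2 (mem_of_conj_mem hH (by rwa [orderOf_submonoid])
      (Subgroup.mem_subgroupOf.1 hsH) (Subgroup.mem_subgroupOf.1 hg))

omit hH

/-- `H` is strongly embedded as soon as it contains the normalizers of its nontrivial 2-subgroups. -/
theorem isStronglyEmbedded_of_normalizers (hne : H ≠ ⊤) (heven : Even (Nat.card H))
    (hN : ∀ X : Subgroup G, X ≤ H → IsPGroup 2 X → X ≠ ⊥ →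
      Subgroup.normalizer (X : Set G) ≤ H) : IsStronglyEmbedded H := by
  haveI : Fact (Nat.Prime 2) := ⟨Nat.prime_two⟩
  have hC : ∀ t ∈ H, orderOf t = 2 → Subgroup.centralizer ({t} : Set G) ≤ H := by
    intro t htH ht
    refine le_trans ?_ (hN (Subgroup.zpowers t) (Subgroup.zpowers_le.2 htH)
      (IsPGroup.of_card (n := 1) (by rw [Nat.card_zpowers, ht, pow_one]))
      (Subgroup.zpowers_ne_bot.2 (ne_one ht)))
    rw [Subgroup.zpowers_eq_closure, ← Subgroup.centralizer_closure]
    exact Subgroup.centralizer_le_normalizer _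
  refine isStronglyEmbedded_iff_forall.2 ⟨hne, heven, fun g t ht htH hg => ?_⟩
  obtain ⟨Q, hQ⟩ : ∃ Q : Sylow 2 G, Subgroup.zpowers t ≤ Q :=
    (IsPGroup.of_card (n := 1) (by rw [Nat.card_zpowers, ht, pow_one])).exists_le_sylow
  have htQ : t ∈ Q := hQ (Subgroup.mem_zpowers t)
  have hQH : (Q : Subgroup G) ≤ H := two_group_le_of_centralizer_le hC Q.isPGroup' ht htQ htH
  have htgQ : g * t * g⁻¹ ∈ ((g • Q : Sylow 2 G) : Subgroup G) :=
    Subgroup.smul_mem_pointwise_smul _ (MulAut.conj g) _ htQ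
  have hgQH : ((g • Q : Sylow 2 G) : Subgroup G) ≤ H :=
    two_group_le_of_centralizer_le hC (g • Q).isPGroup' (by rw [orderOf_conj, ht]) htgQ hg
  obtain ⟨h, hh⟩ := MulAction.exists_smul_eq H (Q.subtype hQH) ((g • Q).subtype hgQH)
  have hQne : (Q : Subgroup G) ≠ ⊥ := fun hb => ne_one ht (Subgroup.mem_bot.1 (hb ▸ htQ))
  have key : ((h : G)⁻¹ * g) • Q = Q := by
    have h1 := congrArg (fun R : Sylow 2 H => (R : Subgroup H).map H.subtype) hh
    have h2 : ((h : G) • Q : Sylow 2 G) = g • Q := by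
      apply Sylow.ext
      have hsub : ((h : G) • Q : Sylow 2 G).toSubgroup ≤ H := by
        rintro _ ⟨q, hq, rfl⟩
        exact H.mul_mem (H.mul_mem h.2 (hQH hq)) (H.inv_mem h.2)
      have e1 : (h • Q.subtype hQH : Sylow 2 H) = ((h : G) • Q).subtype hsub := by
        apply Sylow.ext
        ext a
        rw [Sylow.coe_subtype, Subgroup.mem_subgroupOf]
        constructor
        · rintro ⟨b, hb, rfl⟩
          exact ⟨b, hb, rfl⟩
        · rintro ⟨b, hb, hab⟩
          exact ⟨⟨b, hQH hb⟩, hb, Subtype.ext hab⟩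
      rw [e1, Sylow.coe_subtype, Sylow.coe_subtype, Subgroup.map_subgroupOf_eq_of_le hsub,
        Subgroup.map_subgroupOf_eq_of_le hgQH] at h1
      exact h1
    rw [mul_smul, ← h2, inv_smul_smul]
  have := hN _ hQH Q.isPGroup' hQne (Sylow.smul_eq_iff_mem_normalizer.1 key)
  simpa using H.mul_mem h.2 this

section cosets

omit [Finite G] in
theorem smul_mk_eq_iff (i g : G) :
    i • (QuotientGroup.mk g : G ⧸ H) = QuotientGroup.mk g ↔ g⁻¹ * i * g ∈ H := by
  rw [MulAction.Quotient.smul_mk, QuotientGroup.eq, ← H.inv_mem_iff]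
  simp [mul_assoc]

include hH

theorem fixed_unique {i : G} (hi : orderOf i = 2) {x y : G ⧸ H} (hx : i • x = x)
    (hy : i • y = y) : x = y := by
  induction x using QuotientGroup.induction_on with | _ a =>
  induction y using QuotientGroup.induction_on with | _ b =>
  rw [smul_mk_eq_iff] at hx hy
  rw [QuotientGroup.eq, ← H.inv_mem_iff]
  refine mem_of_conj_mem hH (t := a⁻¹ * i * a) ?_ hx ?_
  · have := orderOf_conj a⁻¹ i; rw [inv_inv] at this; rw [this, hi]
  · simpa [mul_assoc] using hy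

theorem exists_fixed {i : G} (hi : orderOf i = 2) : ∃ x : G ⧸ H, i • x = x := by
  obtain ⟨g, hg⟩ := exists_conj_mem hH hi
  exact ⟨g, (smul_mk_eq_iff i g).2 hg⟩

omit hH [Finite G] in
theorem card_fixing (x : G ⧸ H) :
    Nat.card {i : G // orderOf i = 2 ∧ i • x = x} = Nat.card {t : G // orderOf t = 2 ∧ t ∈ H} := by
  induction x using QuotientGroup.induction_on with | _ a =>
  refine Nat.card_congr (Equiv.subtypeEquiv (MulAut.conj a⁻¹).toEquiv fun i => ?_)
  show _ ↔ orderOf (a⁻¹ * i * a⁻¹⁻¹) = 2 ∧ a⁻¹ * i * a⁻¹⁻¹ ∈ H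
  rw [orderOf_conj, inv_inv, smul_mk_eq_iff]

/-- For each pair of distinct cosets, as many involutions swap them as lie in `H`. -/
theorem card_swapping {x y : G ⧸ H} (hxy : x ≠ y) :
    Nat.card {i : G // orderOf i = 2 ∧ i • x = y} = Nat.card {t : G // orderOf t = 2 ∧ t ∈ H} := by
  classical
  haveI := Fintype.ofFinite (G ⧸ H)
  obtain ⟨t, htx, ht⟩ : ∃ t : G, t • x = x ∧ orderOf t = 2 := by
    obtain ⟨t, htH, ht⟩ := exists_involution_mem hH.2.1
    induction x using QuotientGroup.induction_on with | _ a =>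
    exact ⟨a * t * a⁻¹, (smul_mk_eq_iff _ _).2 (by simpa [mul_assoc] using htH),
      by rw [orderOf_conj, ht]⟩
  set m := Nat.card {t : G // orderOf t = 2 ∧ t ∈ H}
  have hge : ∀ z : G ⧸ H, x ≠ z → m ≤ Nat.card {i : G // orderOf i = 2 ∧ i • x = z} := by
    intro z hxz
    rw [show m = _ from (card_fixing z).symm]
    have hmid : ∀ s : {i : G // orderOf i = 2 ∧ i • z = z},
        ∃ w : G, orderOf w = 2 ∧ w • x = z ∧ w * t * w⁻¹ = s := by
      rintro ⟨s, hs, hsz⟩
      have hts : t ≠ s := fun h => hxz (fixed_unique hH ht htx (h ▸ hsz))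
      have hodd : Odd (orderOf (t * s)) := by
        rcases Nat.even_or_odd (orderOf (t * s)) with he | ho
        · exfalso
          obtain ⟨c, hc, hct, hcs, -⟩ := exists_commuting_involution ht hs he
          have h1 : c • x = x := fixed_unique hH ht
            (by rw [← mul_smul, ← hct.eq, mul_smul, htx]) htx
          have h2 : c • z = z := fixed_unique hH hs
            (by rw [← mul_smul, ← hcs.eq, mul_smul, hsz]) hsz
          exact hxz (fixed_unique hH hc h1 h2)
        · exact ho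
      obtain ⟨l, hl⟩ := hodd
      have hw : (t * (t * s) ^ ((l + 1 : ℕ) : ℤ)) * t * (t * (t * s) ^ ((l + 1 : ℕ) : ℤ))⁻¹ = s := by
        rw [conj_left_mul_zpow ht hs,
          show (2 * ((l + 1 : ℕ) : ℤ)) = (orderOf (t * s) : ℤ) + 1 by rw [hl]; push_cast; ring,
          zpow_add_one, zpow_natCast, pow_orderOf_eq_one, one_mul, left_mul_mul_left ht hs]
      refine ⟨_, orderOf_mul_zpow ht hs hts _, fixed_unique hH hs ?_ hsz, hw⟩
      generalize t * (t * s) ^ ((l + 1 : ℕ) : ℤ) = w at hw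
      rw [← hw, mul_smul, mul_smul, inv_smul_smul, htx]
    choose w hw2 hwx hws using hmid
    refine Nat.card_le_card_of_injective (fun s => ⟨w s, hw2 s, hwx s⟩) fun a b hab => ?_
    simp only [Subtype.mk.injEq] at hab
    exact Subtype.ext (by rw [← hws a, hab, hws b])
  have hsum : ∑ z : G ⧸ H, Nat.card {i : G // orderOf i = 2 ∧ i • x = z} = ∑ _z : G ⧸ H, m := by
    rw [← Nat.card_sigma]
    conv_rhs => arg 2; ext z; rw [show m = _ from (card_fixing z).symm]
    rw [← Nat.card_sigma]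
    choose f hf using fun i : {i : G // orderOf i = 2} => exists_fixed hH i.2
    refine Nat.card_congr ?_
    refine Equiv.trans (β := {i : G // orderOf i = 2}) ?_ ?_
    · exact
        { toFun := fun p => ⟨p.2.1, p.2.2.1⟩
          invFun := fun i => ⟨i.1 • x, i.1, i.2, rfl⟩
          left_inv := by rintro ⟨z, i, hi, rfl⟩; rfl
          right_inv := fun i => rfl }
    · exact
        { toFun := fun i => ⟨f i, i.1, i.2, hf i⟩
          invFun := fun p => ⟨p.2.1, p.2.2.1⟩
          left_inv := fun i => rfl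
          right_inv := by
            rintro ⟨z, i, hi, hz⟩
            obtain rfl : f ⟨i, hi⟩ = z := fixed_unique hH hi (hf ⟨i, hi⟩) hz
            rfl }
  have hx : Nat.card {i : G // orderOf i = 2 ∧ i • x = x} = m := card_fixing x
  have hall : ∀ z ∈ (Finset.univ : Finset (G ⧸ H)),
      m = Nat.card {i : G // orderOf i = 2 ∧ i • x = z} := by
    refine (Finset.sum_eq_sum_iff_of_le fun z _ => ?_).1 hsum.symm
    by_cases hz : x = z
    · rw [← hz, hx]
    · exact hge z hz
  exact (hall y (Finset.mem_univ y)).symm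

end cosets

end Cfsg.Agent.Involution
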