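/-
Transitivity of the two-point stabiliser on the involutions of a point stabiliser.

Main results (namespace `Cfsg.Agent.Involution`, `H` strongly embedded):
* `exists_conj_swap` : involutions swapping two cosets are conjugate under the two-point stabiliser
* `exists_conj_two_point` : the two-point stabiliser is transitive on the involutions fixing one of the points
-/
import Cfsg.Agent.Lib.Involution.StronglyEmbedded

namespace Cfsg.Agent.Involution

open Cfsg

variable {G : Type*} [Group G] [Finite G] {H : Subgroup G}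

variable (hH : IsStronglyEmbedded H)
include hH

theorem odd_two_point {x y : G ⧸ H} (hxy : x ≠ y) :
    Odd (Nat.card ↥(MulAction.stabilizer G x ⊓ MulAction.stabilizer G y)) :=
  (odd_iff_no_involution _).2 fun _t ht h2 => hxy
    (fixed_unique hH h2 (MulAction.mem_stabilizer_iff.1 ht.1) (MulAction.mem_stabilizer_iff.1 ht.2))

theorem smul_swap {x y : G ⧸ H} {w : G} (hw : orderOf w = 2) (hwx : w • x = y) : w • y = x := by
  rw [← hwx, ← mul_smul, mul_self hw, one_smul]

theorem exists_conj_swap {x y : G ⧸ H} (hxy : x ≠ y) {u w : G} (hu : orderOf u = 2)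
    (hux : u • x = y) (hw : orderOf w = 2) (hwx : w • x = y) :
    ∃ d ∈ MulAction.stabilizer G x ⊓ MulAction.stabilizer G y, d * u * d⁻¹ = w := by
  have hd : u * w ∈ MulAction.stabilizer G x ⊓ MulAction.stabilizer G y := by
    constructor
    · exact MulAction.mem_stabilizer_iff.2 (by rw [mul_smul, hwx, smul_swap hH hu hux])
    · exact MulAction.mem_stabilizer_iff.2 (by rw [mul_smul, smul_swap hH hw hwx, hux])
  obtain ⟨k, hk⟩ := odd_two_point hH hxy
  have hord := orderOf_dvd_iff_pow_eq_one.1 (Subgroup.orderOf_dvd_natCard _ hd)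
  refine ⟨((u * w) ^ (k + 1))⁻¹, Subgroup.inv_mem _ (Subgroup.pow_mem _ hd _), ?_⟩
  have hi := inverts_pow (inverts_mul_left hu hw) (k + 1)
  calc ((u * w) ^ (k + 1))⁻¹ * u * ((u * w) ^ (k + 1))⁻¹⁻¹
      = u * (u * ((u * w) ^ (k + 1))⁻¹ * u⁻¹) * (u * w) ^ (k + 1) := by
        rw [inv_eq hu, ← mul_assoc u, ← mul_assoc u, mul_self hu, one_mul, inv_inv]
    _ = u * ((u * w) ^ (k + 1) * (u * w) ^ (k + 1)) := by
        rw [← conj_inv, hi, inv_inv, mul_assoc]
    _ = w := by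
        rw [← pow_add, show k + 1 + (k + 1) = (2 * k + 1) + 1 by omega, ← hk, pow_succ, hord,
          one_mul, ← mul_assoc, mul_self hu, one_mul]

/-- The stabiliser of two cosets is transitive on the involutions fixing the first. -/
theorem exists_conj_two_point {x y : G ⧸ H} (hxy : x ≠ y) {s t : G} (hs : orderOf s = 2)
    (hsx : s • x = x) (ht : orderOf t = 2) (htx : t • x = x) :
    ∃ d ∈ MulAction.stabilizer G x ⊓ MulAction.stabilizer G y, d * s * d⁻¹ = t := by
  classical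
  haveI := Fintype.ofFinite (G ⧸ H)
  let P := {p : (G ⧸ H) × (G ⧸ H) // p.1 ≠ p.2}
  let D : P → Subgroup G := fun p => MulAction.stabilizer G p.1.1 ⊓ MulAction.stabilizer G p.1.2
  let A : P → Type _ := fun p =>
    {q : G × G // q.1 ∈ D p ∧ orderOf q.2 = 2 ∧ q.2 • p.1.1 = p.1.1 ∧ Commute q.1 q.2}
  let B : P → Type _ := fun p =>
    {q : G × G // q.1 ∈ D p ∧ orderOf q.2 = 2 ∧ q.2 • p.1.1 = p.1.2 ∧ Commute q.1 q.2}
  -- pairs for one orbit have the cardinality of the stabiliser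
  have hA : ∀ (p : P) (t₀ : G), orderOf t₀ = 2 → t₀ • p.1.1 = p.1.1 →
      Nat.card (D p) ≤ Nat.card {q : A p // ∃ d ∈ D p, d * t₀ * d⁻¹ = q.1.2} := by
    intro p t₀ h0 h0x
    have hex : ∀ g : D p, ∃ e ∈ D p, e * t₀ * e⁻¹ = (g : G) * t₀ * (g : G)⁻¹ := fun g => ⟨g, g.2, rfl⟩
    let O := {v : G // ∃ e ∈ D p, e * t₀ * e⁻¹ = v}
    choose e he het using fun v : O => v.2
    let v : D p → O := fun g => ⟨(g : G) * t₀ * (g : G)⁻¹, hex g⟩
    have hmove : ∀ g : D p, ((g : G) * t₀ * (g : G)⁻¹) • p.1.1 = p.1.1 := fun g => by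
      rw [mul_smul, mul_smul, show (g : G)⁻¹ • p.1.1 = p.1.1 from
        MulAction.mem_stabilizer_iff.1 (Subgroup.inv_mem _ g.2.1), h0x]
      exact MulAction.mem_stabilizer_iff.1 g.2.1
    refine Nat.card_le_card_of_injective (fun g => ⟨⟨((g : G) * (e (v g))⁻¹, (g : G) * t₀ * (g : G)⁻¹),
      (D p).mul_mem g.2 ((D p).inv_mem (he (v g))), by rw [orderOf_conj, h0], hmove g, ?_⟩,
      g, g.2, rfl⟩) ?_
    · show ((g : G) * (e (v g))⁻¹) * ((g : G) * t₀ * (g : G)⁻¹) =
        ((g : G) * t₀ * (g : G)⁻¹) * ((g : G) * (e (v g))⁻¹)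
      have := het (v g)
      calc ((g : G) * (e (v g))⁻¹) * ((g : G) * t₀ * (g : G)⁻¹)
          = (g : G) * (e (v g))⁻¹ * (e (v g) * t₀ * (e (v g))⁻¹) := by rw [this]
        _ = ((g : G) * t₀ * (g : G)⁻¹) * ((g : G) * (e (v g))⁻¹) := by group
    · intro g g' h
      have h' : ((g : G) * (e (v g))⁻¹, (g : G) * t₀ * (g : G)⁻¹) =
          ((g' : G) * (e (v g'))⁻¹, (g' : G) * t₀ * (g' : G)⁻¹) :=
        congrArg Subtype.val (congrArg Subtype.val h)
      simp only [Prod.mk.injEq] at h'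
      have hv : v g = v g' := Subtype.ext h'.2
      have h1 := h'.1
      rw [hv] at h1
      exact Subtype.ext (mul_right_cancel h1)
  have hB : ∀ p : P, Nat.card (B p) ≤ Nat.card (D p) := by
    intro p
    by_cases hne : Nonempty (B p)
    · obtain ⟨⟨⟨_, u⟩, -, hu, hux, -⟩⟩ := hne
      let I := {w : G // orderOf w = 2 ∧ w • p.1.1 = p.1.2}
      choose e he hew using fun w : I => exists_conj_swap hH p.2 hu hux w.2.1 w.2.2
      let w : B p → I := fun q => ⟨q.1.2, q.2.2.1, q.2.2.2.1⟩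
      refine Nat.card_le_card_of_injective
        (fun q => ⟨q.1.1 * e (w q), (D p).mul_mem q.2.1 (he (w q))⟩) fun q q' h => ?_
      simp only [Subtype.mk.injEq] at h
      have key : ∀ r : B p, (r.1.1 * e (w r)) * u * (r.1.1 * e (w r))⁻¹ = r.1.2 := fun r => by
        calc _ = r.1.1 * (e (w r) * u * (e (w r))⁻¹) * r.1.1⁻¹ := by group
          _ = r.1.2 := by rw [hew (w r)]; exact mul_inv_eq_iff_eq_mul.2 r.2.2.2.2.eq
      have h2 : q.1.2 = q'.1.2 := by rw [← key q, ← key q', h]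
      have hw : w q = w q' := Subtype.ext h2
      rw [hw] at h
      exact Subtype.ext (Prod.ext (mul_right_cancel h) h2)
    · haveI := not_nonempty_iff.1 hne
      simp
  -- the two totals agree
  choose f hf using fun i : {i : G // orderOf i = 2} => exists_fixed hH i.2
  have hsum : ∑ p : P, Nat.card (A p) = ∑ p : P, Nat.card (B p) := by
    rw [← Nat.card_sigma, ← Nat.card_sigma]
    refine Nat.card_congr ?_
    exact
      { toFun := fun r => ⟨⟨(r.1.1.2, r.2.1.2 • r.1.1.2), fun h => r.1.2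
          (fixed_unique hH r.2.2.2.1 r.2.2.2.2.1 (h.symm :))⟩, r.2.1, ⟨r.2.2.1.2, by
            show r.2.1.1 • r.2.1.2 • r.1.1.2 = r.2.1.2 • r.1.1.2
            rw [← mul_smul, r.2.2.2.2.2.eq, mul_smul]
            exact congrArg _ r.2.2.1.2⟩, r.2.2.2.1, rfl, r.2.2.2.2.2⟩
        invFun := fun r => ⟨⟨(f ⟨r.2.1.2, r.2.2.2.1⟩, r.1.1.1), fun h => r.1.2 (by
            simp only at h
            have h1 := hf ⟨r.2.1.2, r.2.2.2.1⟩
            rw [h] at h1
            exact h1.symm.trans r.2.2.2.2.1)⟩, r.2.1, ⟨by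
              show r.2.1.1 • f ⟨r.2.1.2, r.2.2.2.1⟩ = f ⟨r.2.1.2, r.2.2.2.1⟩
              refine fixed_unique hH r.2.2.2.1 ?_ (hf ⟨r.2.1.2, r.2.2.2.1⟩)
              rw [← mul_smul, ← r.2.2.2.2.2.eq, mul_smul, hf ⟨r.2.1.2, r.2.2.2.1⟩],
            r.2.2.1.1⟩, r.2.2.2.1, hf ⟨r.2.1.2, r.2.2.2.1⟩, r.2.2.2.2.2⟩
        left_inv := by
          rintro ⟨⟨⟨a, b⟩, hab⟩, ⟨d, i⟩, hd, hi, hia, hc⟩
          obtain rfl : f ⟨i, hi⟩ = a := fixed_unique hH hi (hf ⟨i, hi⟩) hia
          rfl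
        right_inv := by
          rintro ⟨⟨⟨a, b⟩, hab⟩, ⟨d, i⟩, hd, hi, hib, hc⟩
          dsimp only at hib
          subst hib
          rfl }
  have hle : ∀ p : P, Nat.card (B p) ≤ Nat.card (A p) := by
    intro p
    refine (hB p).trans ?_
    obtain ⟨t₀, h0x, h0⟩ : ∃ t₀ : G, t₀ • p.1.1 = p.1.1 ∧ orderOf t₀ = 2 := by
      obtain ⟨t₀, h0H, h0⟩ := exists_involution_mem hH.2.1
      induction p.1.1 using QuotientGroup.induction_on with | _ a =>
      exact ⟨a * t₀ * a⁻¹, (smul_mk_eq_iff _ _).2 (by simpa [mul_assoc] using h0H),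
        by rw [orderOf_conj, h0]⟩
    exact (hA p t₀ h0 h0x).trans
      (Nat.card_le_card_of_injective Subtype.val Subtype.val_injective)
  have heq := (Finset.sum_eq_sum_iff_of_le fun p _ => hle p).1 hsum.symm
  by_contra hcon
  push_neg at hcon
  let p₀ : P := ⟨(x, y), hxy⟩
  have h1 := heq p₀ (Finset.mem_univ _)
  have h2 := (hA p₀ s hs hsx)
  have h3 : Nat.card {q : A p₀ // ∃ d ∈ D p₀, d * s * d⁻¹ = q.1.2} < Nat.card (A p₀) := by
    refine Finite.card_subtype_lt (x := ⟨(1, t), (D p₀).one_mem, ht, htx, Commute.one_left t⟩) ?_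
    rintro ⟨d, hd, hdt⟩
    exact hcon d hd hdt
  have h4 := hB p₀
  omega

end Cfsg.Agent.Involution
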