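/-
The Baer–Suzuki theorem (proof of Alperin and Lyons).

Main results (namespace `Cfsg.Agent.Involution`):
* `baer_suzuki_element` : if `⟨x, gxg⁻¹⟩` is a p-group for all g, then x lies in a normal p-subgroup.
* `baer_suzuki`, `exists_inverted_odd` (an involution outside O₂(G) inverts an odd order element ≠ 1).
-/
import Cfsg.Agent.Lib.Involution.Basic

namespace Cfsg.Agent.Involution

open scoped Pointwise

variable {G : Type*} [Group G]

/-- The conjugates of `x` that lie in a subgroup. -/
private def conjIn (x : G) (P : Subgroup G) : Set G := {d | IsConj x d ∧ d ∈ P}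

private theorem exists_normalizing [Finite G] {p : ℕ} [Fact p.Prime] (x : G) (P : Subgroup G)
    (hP : IsPGroup p P) (E : Set G) (hsub : E ⊆ conjIn x P) (hne : E ≠ conjIn x P)
    (hcl : ∀ d ∈ conjIn x P, d ∈ Subgroup.closure E → d ∈ E) :
    ∃ a ∈ conjIn x P, a ∉ E ∧ ∀ e ∈ E, a * e * a⁻¹ ∈ Subgroup.closure E := by
  classical
  obtain ⟨M, hM⟩ := Set.Finite.exists_maximal
    (Set.toFinite {M : Subgroup G | M ≤ P ∧ Subgroup.closure E ≤ M ∧ conjIn x M = E})
    ⟨Subgroup.closure E, by
      refine ⟨(Subgroup.closure_le _).2 fun e he => (hsub he).2, le_rfl, ?_⟩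
      ext d
      exact ⟨fun ⟨h1, h2⟩ => hcl d ⟨h1, (Subgroup.closure_le _).2 (fun e he => (hsub he).2) h2⟩ h2,
        fun he => ⟨(hsub he).1, Subgroup.subset_closure he⟩⟩⟩
  obtain ⟨⟨hMP, hEM, hME⟩, hmax⟩ := hM
  have hlt : M < P := by
    refine lt_of_le_of_ne hMP ?_
    rintro rfl
    exact hne hME.symm
  haveI := hP.isNilpotent
  have hN := Group.normalizerCondition_of_isNilpotent (M.subgroupOf P) (by
    rw [lt_top_iff_ne_top, Ne, Subgroup.subgroupOf_eq_top]
    exact not_le_of_gt hlt)
  obtain ⟨n, hn, hnM⟩ := SetLike.exists_of_lt hN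
  set N : Subgroup G := Subgroup.normalizer (M : Set G) ⊓ P with hNdef
  have hnN : (n : G) ∈ N := by
    refine ⟨?_, n.2⟩
    show (n : G) ∈ Subgroup.normalizer (M : Set G)
    rw [Subgroup.mem_normalizer_iff]
    intro h
    constructor
    · intro hh
      exact (Subgroup.mem_subgroupOf.1
        (((Subgroup.mem_normalizer_iff.1 hn) ⟨h, hMP hh⟩).1 (Subgroup.mem_subgroupOf.2 hh)) : _)
    · intro hh
      have hhP : h ∈ P := by
        have := P.mul_mem (P.mul_mem (P.inv_mem n.2) (hMP hh)) n.2
        simpa [mul_assoc] using this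
      exact Subgroup.mem_subgroupOf.1
        (((Subgroup.mem_normalizer_iff.1 hn) ⟨h, hhP⟩).2 (Subgroup.mem_subgroupOf.2 hh))
  have hMN : M ≤ N := le_inf Subgroup.le_normalizer hMP
  have hNE : conjIn x N ≠ E := by
    intro hc
    exact hnM (Subgroup.mem_subgroupOf.2 (hmax ⟨inf_le_right, hEM.trans hMN, hc⟩ hMN hnN))
  have hEN : E ⊆ conjIn x N := fun e he => by
    rw [← hME] at he
    exact ⟨he.1, hMN he.2⟩
  obtain ⟨a, haN, haE⟩ : ∃ a ∈ conjIn x N, a ∉ E := by
    by_contra! h
    exact hNE (Set.Subset.antisymm h hEN)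
  refine ⟨a, ⟨haN.1, haN.2.2⟩, haE, fun e he => Subgroup.subset_closure ?_⟩
  rw [← hME] at he ⊢
  exact ⟨he.1.trans (isConj_iff.2 ⟨a, rfl⟩), (Subgroup.mem_normalizer_iff.1 haN.2.1 e).1 he.2⟩

/-- **Baer–Suzuki**, element form. -/
theorem baer_suzuki_element [Finite G] {p : ℕ} [Fact p.Prime] (x : G)
    (h : ∀ g : G, IsPGroup p ↥(Subgroup.closure ({x, g * x * g⁻¹} : Set G))) :
    IsPGroup p ↥(Subgroup.normalClosure ({x} : Set G)) := by
  classical
  have hpair : ∀ a b : G, IsConj x a → IsConj x b →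
      IsPGroup p ↥(Subgroup.closure ({a, b} : Set G)) := by
    intro a b ha hb
    obtain ⟨c, rfl⟩ := isConj_iff.1 ha
    obtain ⟨d, rfl⟩ := isConj_iff.1 hb
    have h1 := (h (c⁻¹ * d)).map (MulAut.conj c).toMonoidHom
    rw [MonoidHom.map_closure] at h1
    have heq : (({c * x * c⁻¹, d * x * d⁻¹} : Set G)) =
        (MulAut.conj c).toMonoidHom '' {x, c⁻¹ * d * x * (c⁻¹ * d)⁻¹} := by
      rw [Set.image_pair]; simp [MulAut.conj_apply]; group
    rw [heq]; exact h1
  -- all Sylow subgroups contain the same conjugates of `x`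
  have hsame : ∀ P Q : Sylow p G, conjIn x (P : Subgroup G) = conjIn x (Q : Subgroup G) := by
    by_contra hcon
    push_neg at hcon
    obtain ⟨⟨P, Q⟩, hne, hmax⟩ := Set.exists_max_image
      {q : Sylow p G × Sylow p G | conjIn x (q.1 : Subgroup G) ≠ conjIn x (q.2 : Subgroup G)}
      (fun q => (conjIn x (q.1 : Subgroup G) ∩ conjIn x (q.2 : Subgroup G)).ncard)
      (Set.toFinite _) (by obtain ⟨P, Q, hPQ⟩ := hcon; exact ⟨⟨P, Q⟩, hPQ⟩)
    set E := conjIn x (P : Subgroup G) ∩ conjIn x (Q : Subgroup G) with hE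
    have hcard : ∀ R S : Sylow p G,
        (conjIn x (R : Subgroup G)).ncard = (conjIn x (S : Subgroup G)).ncard := by
      intro R S
      obtain ⟨g, rfl⟩ := MulAction.exists_smul_eq G R S
      have himg : conjIn x ((g • R : Sylow p G) : Subgroup G) =
          (fun d => g * d * g⁻¹) '' conjIn x (R : Subgroup G) := by
        ext d
        constructor
        · rintro ⟨h1, h2⟩
          refine ⟨g⁻¹ * d * g, ⟨h1.trans (isConj_iff.2 ⟨g⁻¹, by group⟩), ?_⟩, by group⟩
          have h3 := Subgroup.mem_pointwise_smul_iff_inv_smul_mem.1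
            (show d ∈ MulAut.conj g • (R : Subgroup G) from h2)
          simpa [MulAut.smul_def] using h3
        · rintro ⟨e, ⟨h1, h2⟩, rfl⟩
          exact ⟨h1.trans (isConj_iff.2 ⟨g, rfl⟩),
            show g * e * g⁻¹ ∈ MulAut.conj g • (R : Subgroup G) from
              Subgroup.smul_mem_pointwise_smul _ (MulAut.conj g) _ h2⟩
      rw [himg, Set.ncard_image_of_injective]
      intro d e hde; simpa using hde
    have hP' : E ≠ conjIn x (P : Subgroup G) := by
      intro hc
      exact hne (Set.eq_of_subset_of_ncard_le (Set.inter_eq_left.1 hc) (hcard Q P).le)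
    have hQ' : E ≠ conjIn x (Q : Subgroup G) := by
      intro hc
      exact hne (Set.eq_of_subset_of_ncard_le (Set.inter_eq_right.1 hc) (hcard P Q).le).symm
    have hEP : Subgroup.closure E ≤ P := (Subgroup.closure_le _).2 fun e he => he.1.2
    have hEQ : Subgroup.closure E ≤ Q := (Subgroup.closure_le _).2 fun e he => he.2.2
    obtain ⟨a, ha, haE, hanorm⟩ := exists_normalizing x (P : Subgroup G) P.isPGroup' E
      Set.inter_subset_left hP' (fun d hd hd' => ⟨hd, hd.1, hEQ hd'⟩)
    obtain ⟨b, hb, hbE, hbnorm⟩ := exists_normalizing x (Q : Subgroup G) Q.isPGroup' E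
      Set.inter_subset_right hQ' (fun d hd hd' => ⟨⟨hd.1, hEP hd'⟩, hd⟩)
    have hN : ∀ c : G, (∀ e ∈ E, c * e * c⁻¹ ∈ Subgroup.closure E) →
        c ∈ Subgroup.normalizer ((Subgroup.closure E : Subgroup G) : Set G) := by
      intro c hc
      have hle : (Subgroup.closure E).map (MulAut.conj c).toMonoidHom ≤ Subgroup.closure E := by
        rw [MonoidHom.map_closure, Subgroup.closure_le]
        rintro _ ⟨e, he, rfl⟩
        exact hc e he
      have heq : (Subgroup.closure E).map (MulAut.conj c).toMonoidHom = Subgroup.closure E :=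
        Subgroup.eq_of_le_of_card_ge hle
          (Subgroup.card_map_of_injective (MulAut.conj c).injective).ge
      rw [Subgroup.mem_normalizer_iff]
      intro h
      constructor
      · intro hh; exact hle ⟨h, hh, rfl⟩
      · intro hh
        obtain ⟨h', hh', heq'⟩ := heq.ge hh
        have : h' = h := (MulAut.conj c).injective (by simpa using heq')
        exact this ▸ hh'
    have hRp : IsPGroup p ↥(Subgroup.closure ({a, b} : Set G) ⊔ Subgroup.closure E) := by
      refine IsPGroup.to_sup_of_normal_right' (hpair a b ha.1 hb.1) (P.isPGroup'.to_le hEP) ?_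
      rw [Subgroup.closure_le]
      rintro c (rfl | rfl)
      · exact hN c hanorm
      · exact hN c hbnorm
    obtain ⟨T, hT⟩ := hRp.exists_le_sylow
    have hET : E ⊆ conjIn x (T : Subgroup G) := fun e he =>
      ⟨he.1.1, hT (le_sup_right (a := Subgroup.closure ({a, b} : Set G))
        (Subgroup.subset_closure he))⟩
    have haT : a ∈ conjIn x (T : Subgroup G) :=
      ⟨ha.1, hT (le_sup_left (b := Subgroup.closure E) (Subgroup.subset_closure (by simp)))⟩
    have hbT : b ∈ conjIn x (T : Subgroup G) :=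
      ⟨hb.1, hT (le_sup_left (b := Subgroup.closure E) (Subgroup.subset_closure (by simp)))⟩
    have key : ∀ (R : Sylow p G) (c : G), E ⊆ conjIn x (R : Subgroup G) →
        c ∈ conjIn x (R : Subgroup G) → c ∈ conjIn x (T : Subgroup G) → c ∉ E →
        conjIn x (R : Subgroup G) = conjIn x (T : Subgroup G) := by
      intro R c hER hcR hcT hcE
      by_contra hRT
      have h1 := hmax ⟨R, T⟩ hRT
      have h2 : E ⊂ conjIn x (R : Subgroup G) ∩ conjIn x (T : Subgroup G) :=
        ⟨fun e he => ⟨hER he, hET he⟩, fun hc => hcE (hc ⟨hcR, hcT⟩)⟩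
      have h3 := Set.ncard_lt_ncard h2
      simp only at h1
      omega
    exact hne ((key P a Set.inter_subset_left ha haT haE).trans
      (key Q b Set.inter_subset_right hb hbT hbE).symm)
  obtain ⟨P⟩ : Nonempty (Sylow p G) := inferInstance
  refine P.isPGroup'.to_le ?_
  rw [Subgroup.normalClosure, Subgroup.closure_le]
  intro d hd
  obtain ⟨y, hy, hyd⟩ := Group.mem_conjugatesOfSet_iff.1 hd
  rw [Set.mem_singleton_iff] at hy
  subst hy
  have hd1 : IsPGroup p ↥(Subgroup.zpowers d) := by
    refine (hpair d d hyd hyd).to_le ?_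
    rw [Subgroup.zpowers_le]
    exact Subgroup.subset_closure (by simp)
  obtain ⟨Q, hQ⟩ := hd1.exists_le_sylow
  exact ((hsame Q P).subset ⟨hyd, hQ (Subgroup.mem_zpowers d)⟩).2

/-- **Baer–Suzuki**, subgroup form. -/
theorem baer_suzuki [Finite G] {p : ℕ} [Fact p.Prime] (X : Subgroup G)
    (h : ∀ g : G, IsPGroup p ↥(X ⊔ X.map (MulAut.conj g).toMonoidHom)) :
    IsPGroup p ↥(Subgroup.normalClosure (X : Set G)) := by
  classical
  -- the join of the normal `p`-subgroups
  let P : Sylow p G := default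
  have hle : ∀ x ∈ X, Subgroup.normalClosure ({x} : Set G) ≤ P.normalCore := by
    intro x hx
    have hp : IsPGroup p ↥(Subgroup.normalClosure ({x} : Set G)) := by
      refine baer_suzuki_element x fun g => (h g).to_le ?_
      rw [Subgroup.closure_le]
      rintro _ (rfl | rfl)
      · exact le_sup_left (b := X.map (MulAut.conj g).toMonoidHom) hx
      · exact le_sup_right (a := X) ⟨x, hx, rfl⟩
    obtain ⟨Q, hQ⟩ := hp.exists_le_sylow
    obtain ⟨g, hg⟩ := MulAction.exists_smul_eq G Q P
    refine Subgroup.normal_le_normalCore.2 fun y hy => ?_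
    rw [← hg]
    show y ∈ MulAut.conj g • (Q : Subgroup G)
    rw [Subgroup.mem_pointwise_smul_iff_inv_smul_mem]
    apply hQ
    simpa [MulAut.smul_def] using Subgroup.normalClosure_normal.conj_mem y hy g⁻¹
  refine (P.isPGroup'.to_le P.normalCore_le).to_le ?_
  apply Subgroup.normalClosure_le_normal
  exact fun x hx => hle x hx (Subgroup.subset_normalClosure rfl)

/-- An involution outside every normal 2-subgroup inverts a nontrivial element of odd order. -/
theorem exists_inverted_odd [Finite G] {t : G} (ht : orderOf t = 2)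
    (hO : ∀ N : Subgroup G, N.Normal → IsPGroup 2 N → t ∉ N) :
    ∃ h : G, h ≠ 1 ∧ Odd (orderOf h) ∧ t * h * t⁻¹ = h⁻¹ := by
  haveI : Fact (Nat.Prime 2) := ⟨Nat.prime_two⟩
  by_contra hcon
  push_neg at hcon
  refine hO _ Subgroup.normalClosure_normal (baer_suzuki_element t fun g => ?_)
    (Subgroup.subset_normalClosure rfl)
  have hs : orderOf (g * t * g⁻¹) = 2 := by rw [orderOf_conj, ht]
  by_cases hts : t = g * t * g⁻¹
  · rw [← hts, Set.pair_eq_singleton, ← Subgroup.zpowers_eq_closure]
    apply IsPGroup.of_card (n := 1)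
    rw [Nat.card_zpowers, ht, pow_one]
  obtain ⟨a, m, hm, hn⟩ := Nat.exists_eq_two_pow_mul_odd (orderOf_pos (t * (g * t * g⁻¹))).ne'
  refine isPGroup_closure_pair ht hs hts (a := a) ?_
  by_contra hne
  refine hcon _ hne ?_ (inverts_pow (inverts_mul_left ht hs) _)
  rw [orderOf_pow, hn]
  rw [Nat.gcd_eq_right (dvd_mul_right _ _), Nat.mul_div_cancel_left _ (by positivity)]
  exact hm

end Cfsg.Agent.Involution
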