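/-
Groups with a Klein four Sylow 2-subgroup: fusion of its involutions.

Main results (namespace `Cfsg.Agent.Involution`):
* `klein_conj_dichotomy` : the involutions of `P` are all conjugate or pairwise not conjugate
* `card_classes_of_all_conj`, `card_classes_of_none_conj`
-/
import Cfsg.Agent.Lib.Involution.Basic

namespace Cfsg.Agent.Involution

open scoped Pointwise

variable {G : Type*} [Group G] [Finite G]

theorem exists_conj_mem_sylow (P : Sylow 2 G) {t : G} (ht : orderOf t = 2) :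
    ∃ g : G, g * t * g⁻¹ ∈ P := by
  haveI : Fact (Nat.Prime 2) := ⟨Nat.prime_two⟩
  obtain ⟨Q, hQ⟩ := (IsPGroup.of_card (p := 2) (G := Subgroup.zpowers t) (n := 1)
    (by rw [Nat.card_zpowers, ht, pow_one])).exists_le_sylow
  obtain ⟨g, rfl⟩ := MulAction.exists_smul_eq G Q P
  exact ⟨g, Subgroup.smul_mem_pointwise_smul _ (MulAut.conj g) _ (hQ (Subgroup.mem_zpowers t))⟩

variable (P : Sylow 2 G) [hP : IsKleinFour (P : Subgroup G)]
include hP

theorem klein_mul_comm {a b : G} (ha : a ∈ P) (hb : b ∈ P) : a * b = b * a := by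
  haveI := IsKleinFour.isMulCommutative (G := (P : Subgroup G))
  exact congrArg Subtype.val (mul_comm' (⟨a, ha⟩ : (P : Subgroup G)) ⟨b, hb⟩)

theorem klein_orderOf {a : G} (ha : a ∈ P) (ha1 : a ≠ 1) : orderOf a = 2 :=
  orderOf_of_sq (congrArg Subtype.val (IsKleinFour.mul_self (⟨a, ha⟩ : (P : Subgroup G)))) ha1

theorem klein_eq_mul {a b c : G} (ha : a ∈ P) (ha1 : a ≠ 1) (hb : b ∈ P) (hb1 : b ≠ 1) (hab : a ≠ b)
    (hc : c ∈ P) (hc1 : c ≠ 1) (hca : c ≠ a) (hcb : c ≠ b) : c = a * b := by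
  have := IsKleinFour.eq_mul_of_ne_all (x := (⟨a, ha⟩ : (P : Subgroup G))) (y := ⟨b, hb⟩)
    (z := ⟨c, hc⟩) (fun h => ha1 (congrArg Subtype.val h))
    (fun h => hb1 (congrArg Subtype.val h)) (fun h => hab (congrArg Subtype.val h))
    (fun h => hc1 (congrArg Subtype.val h)) (fun h => hca (congrArg Subtype.val h))
    (fun h => hcb (congrArg Subtype.val h))
  exact congrArg Subtype.val this

omit hP in
theorem exists_pair [IsKleinFour (P : Subgroup G)] :
    ∃ a ∈ P, ∃ b ∈ P, a ≠ 1 ∧ b ≠ 1 ∧ a ≠ b := by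
  haveI := Fintype.ofFinite (P : Subgroup G)
  have h4 : Fintype.card (P : Subgroup G) = 4 := by
    rw [← Nat.card_eq_fintype_card]; exact IsKleinFour.card_four
  haveI : Nontrivial (P : Subgroup G) := Fintype.one_lt_card_iff_nontrivial.1 (by omega)
  obtain ⟨a, ha⟩ := exists_ne (1 : (P : Subgroup G))
  classical
  obtain ⟨b, hb⟩ : ∃ b, b ∉ ({1, a} : Finset (P : Subgroup G)) := by
    by_contra! h
    have : (Finset.univ : Finset (P : Subgroup G)).card ≤ ({1, a} : Finset (P : Subgroup G)).card :=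
      Finset.card_le_card fun x _ => h x
    rw [Finset.card_univ, h4] at this
    exact absurd (this.trans (Finset.card_le_two)) (by omega)
  simp only [Finset.mem_insert, Finset.mem_singleton, not_or] at hb
  exact ⟨a, a.2, b, b.2, fun h => ha (Subtype.ext h), fun h => hb.1 (Subtype.ext h),
    fun h => hb.2 (Subtype.ext h.symm)⟩

/-- If an element of `N(P)` moves the involution `a` to `b ≠ a`, all three are conjugate. -/
theorem klein_all_conj {a b : G} (ha : a ∈ P) (ha1 : a ≠ 1) (hb : b ∈ P) (hab : a ≠ b)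
    (hconj : IsConj a b) : ∀ c ∈ P, c ≠ (1 : G) → IsConj a c := by
  haveI : Fact (Nat.Prime 2) := ⟨Nat.prime_two⟩
  haveI := IsKleinFour.isMulCommutative (G := (P : Subgroup G))
  obtain ⟨g, hg⟩ := isConj_iff.1 hconj
  obtain ⟨n, hn, hnab⟩ := P.conj_eq_normalizer_conj_of_mem a g⁻¹ ha (by rw [inv_inv, hg]; exact hb)
  rw [inv_inv, hg] at hnab
  have hmem : ∀ x ∈ P, n⁻¹ * x * n ∈ P := fun x hx => by
    have := (Subgroup.mem_normalizer_iff.1 ((Subgroup.inv_mem _) hn) x).1 hx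
    rwa [inv_inv] at this
  have hb1 : b ≠ 1 := fun h => ha1 (orderOf_eq_one_iff.1 (by
    rw [orderOf_eq_of_isConj hconj, h, orderOf_one]))
  intro c hc hc1
  by_cases hca : c = a
  · rw [hca]
  by_cases hcb : c = b
  · rw [hcb]; exact hconj
  -- the image of `b` is neither `b` nor `a`
  have h1 : n⁻¹ * b * n ≠ b := fun h => hab (by
    rw [← mul_right_inj (n⁻¹), ← mul_left_inj n, ← hnab, h])
  have h2 : n⁻¹ * b * n ≠ a := by
    intro h
    -- otherwise the 2-part of `n` lies in `P` but swaps `a` and `b`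
    obtain ⟨k, m, hm, hord⟩ := Nat.exists_eq_two_pow_mul_odd (orderOf_pos n⁻¹).ne'
    have hsq : n⁻¹ * n⁻¹ * a * (n⁻¹ * n⁻¹)⁻¹ = a := by
      calc n⁻¹ * n⁻¹ * a * (n⁻¹ * n⁻¹)⁻¹ = n⁻¹ * (n⁻¹ * a * n) * n := by
            simp only [mul_inv_rev, inv_inv, mul_assoc]
        _ = a := by rw [← hnab, h]
    have hpow : ∀ j : ℕ, (n⁻¹ * n⁻¹) ^ j * a * ((n⁻¹ * n⁻¹) ^ j)⁻¹ = a := by
      intro j
      induction j with
      | zero => simp
      | succ j ih =>
        calc _ = (n⁻¹ * n⁻¹) ^ j * (n⁻¹ * n⁻¹ * a * (n⁻¹ * n⁻¹)⁻¹) * ((n⁻¹ * n⁻¹) ^ j)⁻¹ := by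
              rw [pow_succ]; group
          _ = a := by rw [hsq, ih]
    obtain ⟨l, rfl⟩ := hm
    set n' := n⁻¹ ^ (2 * l + 1) with hn'
    have hswap : n' * a * n'⁻¹ = b := by
      rw [hn', pow_succ', pow_mul, sq]
      calc n⁻¹ * (n⁻¹ * n⁻¹) ^ l * a * (n⁻¹ * (n⁻¹ * n⁻¹) ^ l)⁻¹
          = n⁻¹ * ((n⁻¹ * n⁻¹) ^ l * a * ((n⁻¹ * n⁻¹) ^ l)⁻¹) * n := by group
        _ = b := by rw [hpow, hnab]
    have hp : IsPGroup 2 (Subgroup.zpowers n') := by
      obtain ⟨j, -, hj⟩ := (Nat.dvd_prime_pow Nat.prime_two).1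
        (orderOf_dvd_iff_pow_eq_one.2 (show n' ^ (2 ^ k) = 1 by
          rw [hn', ← pow_mul, mul_comm, ← hord, pow_orderOf_eq_one]))
      exact IsPGroup.of_card (n := j) (by rw [Nat.card_zpowers, hj])
    have hle : Subgroup.zpowers n' ≤ Subgroup.normalizer ((P : Subgroup G) : Set G) :=
      Subgroup.zpowers_le.2 (Subgroup.pow_mem _ (Subgroup.inv_mem _ hn) _)
    have hmax := P.is_maximal' (hp.to_sup_of_normal_right' P.isPGroup' hle) le_sup_right
    have hn'P : n' ∈ P := by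
      have := le_sup_left (b := (P : Subgroup G)) (Subgroup.mem_zpowers n')
      rwa [hmax] at this
    rw [klein_mul_comm P hn'P ha, mul_inv_cancel_right] at hswap
    exact hab hswap
  have h3 : n⁻¹ * b * n ≠ 1 := fun h => hb1 (by
    rwa [mul_eq_one_iff_eq_inv, mul_eq_left] at h)
  rw [klein_eq_mul P ha ha1 hb hb1 hab hc hc1 hca hcb,
    ← klein_eq_mul P ha ha1 hb hb1 hab (hmem b hb) h3 h2 h1]
  exact hconj.trans (isConj_iff.2 ⟨n⁻¹, by rw [inv_inv]⟩)

theorem card_classes_of_all_conj {a : G} (ha : a ∈ P) (ha1 : a ≠ 1)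
    (h : ∀ c ∈ P, c ≠ (1 : G) → IsConj a c) :
    Nat.card {C : ConjClasses G // ∃ t : G, orderOf t = 2 ∧ ConjClasses.mk t = C} = 1 := by
  refine Nat.card_eq_one_iff_exists.2
    ⟨⟨ConjClasses.mk a, a, klein_orderOf P ha ha1, rfl⟩, ?_⟩
  rintro ⟨C, t, ht, rfl⟩
  obtain ⟨g, hg⟩ := exists_conj_mem_sylow P ht
  refine Subtype.ext (ConjClasses.mk_eq_mk_iff_isConj.2 ?_)
  exact (isConj_iff.2 ⟨g, rfl⟩).trans
    (h _ hg (ne_one (by rw [orderOf_conj, ht]))).symm

theorem card_classes_of_none_conj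
    (h : ∀ a ∈ P, ∀ b ∈ P, a ≠ (1 : G) → IsConj a b → a = b) :
    Nat.card {C : ConjClasses G // ∃ t : G, orderOf t = 2 ∧ ConjClasses.mk t = C} = 3 := by
  classical
  haveI := Fintype.ofFinite (P : Subgroup G)
  have h3 : Nat.card {x : (P : Subgroup G) // x ≠ 1} = 3 := by
    rw [Nat.card_eq_fintype_card, Fintype.card_subtype_compl, Fintype.card_subtype_eq,
      ← Nat.card_eq_fintype_card, IsKleinFour.card_four]
  rw [← h3]
  refine (Nat.card_congr (Equiv.ofBijective (fun x : {x : (P : Subgroup G) // x ≠ 1} =>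
    (⟨ConjClasses.mk (x.1 : G), x.1, klein_orderOf P x.1.2 (fun h => x.2 (Subtype.ext h)), rfl⟩ :
      {C : ConjClasses G // ∃ t : G, orderOf t = 2 ∧ ConjClasses.mk t = C})) ⟨?_, ?_⟩)).symm
  · intro x y hxy
    exact Subtype.ext (Subtype.ext (h _ x.1.2 _ y.1.2 (fun h => x.2 (Subtype.ext h))
      (ConjClasses.mk_eq_mk_iff_isConj.1 (congrArg Subtype.val hxy))))
  · rintro ⟨C, t, ht, rfl⟩
    obtain ⟨g, hg⟩ := exists_conj_mem_sylow P ht
    refine ⟨⟨⟨_, hg⟩, fun h => ne_one (show orderOf (g * t * g⁻¹) = 2 by rw [orderOf_conj, ht])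
      (congrArg Subtype.val h)⟩, Subtype.ext ?_⟩
    exact ConjClasses.mk_eq_mk_iff_isConj.2 (isConj_iff.2 ⟨g, rfl⟩).symm

theorem klein_conj_dichotomy :
    (∃ a ∈ P, a ≠ (1 : G) ∧ ∀ c ∈ P, c ≠ (1 : G) → IsConj a c) ∨
      ∀ a ∈ P, ∀ b ∈ P, a ≠ (1 : G) → IsConj a b → a = b := by
  by_cases h : ∀ a ∈ P, ∀ b ∈ P, a ≠ (1 : G) → IsConj a b → a = b
  · exact Or.inr h
  push_neg at h
  obtain ⟨a, ha, b, hb, ha1, hc, hab⟩ := h
  exact Or.inl ⟨a, ha, ha1, klein_all_conj P ha ha1 hb hab hc⟩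

end Cfsg.Agent.Involution
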