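/-
Real elements, pairs of involutions with a given product, and the counting behind Brauer–Fowler.

Main results (namespace `Cfsg.Agent.Involution`):
* `card_inverting` : #{g | g x g⁻¹ = x⁻¹} = |C(x)| for real x
* `card_pairs_eq`, `card_pairs_involution`, `card_pairs_le`, `card_pairs_involution_le`
* `card_involution_sq` : n² = Σ_x c(x);  `extendedCentralizer`
* `exists_small_index` (Brauer–Fowler), `card_le_factorial_of_index`
-/
import Cfsg.Agent.Lib.Involution.Basic

namespace Cfsg.Agent.Involution

variable {G : Type*} [Group G]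

theorem card_inverting {x : G} (hreal : IsConj x x⁻¹) :
    Nat.card {g : G // g * x * g⁻¹ = x⁻¹} = Nat.card (Subgroup.centralizer ({x} : Set G)) := by
  obtain ⟨a, ha⟩ := isConj_iff.1 hreal
  refine Nat.card_congr (Equiv.subtypeEquiv (Equiv.mulLeft a⁻¹) fun g => ?_)
  rw [Equiv.coe_mulLeft, mem_centralizer_singleton]
  constructor
  · intro hg
    calc a⁻¹ * g * x = a⁻¹ * (g * x * g⁻¹) * g := by group
      _ = a⁻¹ * (a * x * a⁻¹) * g := by rw [hg, ha]
      _ = x * (a⁻¹ * g) := by group
  · intro hg
    calc g * x * g⁻¹ = a * (a⁻¹ * g * x) * g⁻¹ := by group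
      _ = a * (x * (a⁻¹ * g)) * g⁻¹ := by rw [hg]
      _ = a * x * a⁻¹ := by group
      _ = x⁻¹ := ha

theorem fst_inverts {x u v : G} (hu : orderOf u = 2) (hv : orderOf v = 2) (h : u * v = x) :
    u * x * u⁻¹ = x⁻¹ := by
  subst h; exact inverts_mul_left hu hv

theorem mul_sq_of_inverts {x u : G} (hu : orderOf u = 2) (h : u * x * u⁻¹ = x⁻¹) :
    (u * x) * (u * x) = 1 := by
  calc (u * x) * (u * x) = (u * x * u⁻¹) * (u * u) * x := by group
    _ = 1 := by rw [h, mul_self hu, mul_one, inv_mul_cancel]

/-- Pairs of involutions with product `x`, when `x * x ≠ 1`. -/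
theorem card_pairs_eq {x : G} (hx : x * x ≠ 1) :
    Nat.card {p : G × G // orderOf p.1 = 2 ∧ orderOf p.2 = 2 ∧ p.1 * p.2 = x} =
      Nat.card {t : G // orderOf t = 2 ∧ t * x * t⁻¹ = x⁻¹} :=
  Nat.card_congr
    { toFun := fun p => ⟨p.1.1, p.2.1, fst_inverts p.2.1 p.2.2.1 p.2.2.2⟩
      invFun := fun t => ⟨(t.1, t.1 * x), t.2.1, orderOf_of_sq (mul_sq_of_inverts t.2.1 t.2.2)
        (fun h => hx (by
          rw [mul_eq_one_iff_inv_eq, inv_eq t.2.1] at h
          rw [← h]; exact mul_self t.2.1)),
        by simp only; rw [← mul_assoc, mul_self t.2.1, one_mul]⟩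
      left_inv := by
        rintro ⟨⟨u, v⟩, hu, hv, h⟩
        simp only [Subtype.mk.injEq, Prod.mk.injEq, true_and]
        rw [← show u * v = x from h, ← mul_assoc, mul_self hu, one_mul]
      right_inv := fun t => rfl }

theorem card_pairs_involution [Finite G] {x : G} (hx : orderOf x = 2) :
    Nat.card {p : G × G // orderOf p.1 = 2 ∧ orderOf p.2 = 2 ∧ p.1 * p.2 = x} + 1 =
      Nat.card {t : G // orderOf t = 2 ∧ Commute t x} := by
  classical
  rw [← Finite.card_option]
  refine Nat.card_congr
    { toFun := fun o => match o with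
        | none => ⟨x, hx, Commute.refl x⟩
        | some p => ⟨p.1.1, p.2.1, ?_⟩
      invFun := fun t => if h : t.1 = x then none
        else some ⟨(t.1, t.1 * x), t.2.1, orderOf_of_sq ?_ ?_, ?_⟩
      left_inv := ?_
      right_inv := ?_ }
  · have h := fst_inverts p.2.1 p.2.2.1 p.2.2.2
    rw [inv_eq hx, mul_inv_eq_iff_eq_mul] at h
    exact h
  · exact mul_sq_of_inverts t.2.1 (by rw [t.2.2.eq, mul_inv_cancel_right, inv_eq hx])
  · intro h'
    rw [mul_eq_one_iff_inv_eq, inv_eq t.2.1] at h'
    exact h h'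
  · simp only; rw [← mul_assoc, mul_self t.2.1, one_mul]
  · rintro (_ | ⟨⟨u, v⟩, hu, hv, h⟩)
    · simp
    · have hne : u ≠ x := by
        rintro rfl
        exact ne_one hv (mul_eq_left.1 h)
      simp only [dif_neg hne, Option.some.injEq, Subtype.mk.injEq, Prod.mk.injEq, true_and]
      rw [← show u * v = x from h, ← mul_assoc, mul_self hu, one_mul]
  · intro t
    by_cases h : t.1 = x
    · simp only [dif_pos h]; exact Subtype.ext h.symm
    · simp only [dif_neg h]

theorem card_pairs_not_real {x : G} (hx : ¬ IsConj x x⁻¹) :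
    Nat.card {p : G × G // orderOf p.1 = 2 ∧ orderOf p.2 = 2 ∧ p.1 * p.2 = x} = 0 := by
  haveI : IsEmpty {p : G × G // orderOf p.1 = 2 ∧ orderOf p.2 = 2 ∧ p.1 * p.2 = x} :=
    ⟨fun p => hx (isConj_iff.2 ⟨p.1.1, fst_inverts p.2.1 p.2.2.1 p.2.2.2⟩)⟩
  exact Nat.card_of_isEmpty

variable [Finite G]

theorem card_pairs_le (x : G) :
    Nat.card {p : G × G // orderOf p.1 = 2 ∧ orderOf p.2 = 2 ∧ p.1 * p.2 = x} ≤
      Nat.card (Subgroup.centralizer ({x} : Set G)) := by
  by_cases hreal : IsConj x x⁻¹
  · rw [← card_inverting hreal]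
    refine Nat.card_le_card_of_injective
      (fun p => ⟨p.1.1, fst_inverts p.2.1 p.2.2.1 p.2.2.2⟩) ?_
    rintro ⟨⟨u, v⟩, hu, hv, h⟩ ⟨⟨u', v'⟩, hu', hv', h'⟩ he
    simp only [Subtype.mk.injEq] at he
    subst he
    simp only [Subtype.mk.injEq, Prod.mk.injEq, true_and]
    exact mul_left_cancel (h.trans h'.symm)
  · rw [card_pairs_not_real hreal]; exact Nat.zero_le _

theorem card_pairs_involution_le {x : G} (hx : orderOf x = 2) :
    Nat.card {p : G × G // orderOf p.1 = 2 ∧ orderOf p.2 = 2 ∧ p.1 * p.2 = x} + 2 ≤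
      Nat.card (Subgroup.centralizer ({x} : Set G)) := by
  have h1 := card_pairs_involution hx
  have h2 : Nat.card {t : G // orderOf t = 2 ∧ Commute t x} + 1 ≤
      Nat.card (Subgroup.centralizer ({x} : Set G)) := by
    have hlt : Nat.card {t : G // orderOf t = 2 ∧ Commute t x} <
        Nat.card (Subgroup.centralizer ({x} : Set G)) := by
      refine Set.ncard_lt_ncard (s := {t : G | orderOf t = 2 ∧ Commute t x})
        (t := (Subgroup.centralizer ({x} : Set G) : Set G)) ⟨?_, ?_⟩
      · exact fun t ht => mem_centralizer_iff_commute.2 ht.2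
      · exact fun h => by simpa using (h (Subgroup.one_mem _)).1
    omega
  omega

/-- `n² = Σ_x c(x)`. -/
theorem card_involution_sq [Fintype G] :
    Nat.card {t : G // orderOf t = 2} ^ 2 =
      ∑ x : G, Nat.card {p : G × G // orderOf p.1 = 2 ∧ orderOf p.2 = 2 ∧ p.1 * p.2 = x} := by
  rw [sq, ← Nat.card_prod, ← Nat.card_sigma]
  exact Nat.card_congr
    { toFun := fun p => ⟨p.1.1 * p.2.1, (p.1.1, p.2.1), p.1.2, p.2.2, rfl⟩
      invFun := fun q => (⟨q.2.1.1, q.2.2.1⟩, ⟨q.2.1.2, q.2.2.2.1⟩)
      left_inv := fun p => rfl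
      right_inv := by rintro ⟨x, ⟨u, v⟩, hu, hv, rfl⟩; rfl }

omit [Finite G] in
/-- The extended centralizer: elements centralising or inverting `x`. -/
def extendedCentralizer (x : G) : Subgroup G where
  carrier := {g | g * x * g⁻¹ = x ∨ g * x * g⁻¹ = x⁻¹}
  one_mem' := Or.inl (by simp)
  mul_mem' := by
    intro a b ha hb
    have e : a * b * x * (a * b)⁻¹ = a * (b * x * b⁻¹) * a⁻¹ := by group
    rcases hb with hb | hb <;> rcases ha with ha | ha
    · exact Or.inl (by rw [e, hb, ha])
    · exact Or.inr (by rw [e, hb, ha])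
    · exact Or.inr (by rw [e, hb, ← conj_inv, ha])
    · exact Or.inl (by rw [e, hb, ← conj_inv, ha, inv_inv])
  inv_mem' := by
    intro a ha
    rcases ha with ha | ha
    · left
      conv_lhs => rw [← ha]
      group
    · right
      have : x⁻¹ = (a * x * a⁻¹) := ha.symm
      calc a⁻¹ * x * a⁻¹⁻¹ = a⁻¹ * (x⁻¹)⁻¹ * a := by group
        _ = a⁻¹ * (a * x * a⁻¹)⁻¹ * a := by rw [this]
        _ = x⁻¹ := by group

theorem card_extendedCentralizer {x : G} (hreal : IsConj x x⁻¹) (hx : x * x ≠ 1) :
    Nat.card (extendedCentralizer x) = 2 * Nat.card (Subgroup.centralizer ({x} : Set G)) := by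
  have h1 : ((extendedCentralizer x : Subgroup G) : Set G) =
      (Subgroup.centralizer ({x} : Set G) : Set G) ∪ {g | g * x * g⁻¹ = x⁻¹} := by
    ext g
    rw [Set.mem_union, SetLike.mem_coe, SetLike.mem_coe, mem_centralizer_singleton,
      ← mul_inv_eq_iff_eq_mul]
    rfl
  have hd : Disjoint (Subgroup.centralizer ({x} : Set G) : Set G) {g | g * x * g⁻¹ = x⁻¹} := by
    rw [Set.disjoint_left]
    intro g hg hg'
    rw [SetLike.mem_coe, mem_centralizer_singleton, ← mul_inv_eq_iff_eq_mul] at hg
    refine hx ?_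
    rw [mul_eq_one_iff_eq_inv]
    exact hg.symm.trans hg'
  calc Nat.card (extendedCentralizer x)
      = Set.ncard ((extendedCentralizer x : Subgroup G) : Set G) := rfl
    _ = _ := by
      rw [h1, Set.ncard_union_eq hd, two_mul]
      congr 1
      exact card_inverting hreal

/-- **Brauer–Fowler**: a group of even order with centre of odd order has a proper subgroup
of index `2` or of small index. -/
theorem exists_small_index (heven : Even (Nat.card G)) (hZ : Odd (Nat.card (Subgroup.center G))) :
    ∃ H : Subgroup G, H ≠ ⊤ ∧ (H.index = 2 ∨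
      2 * H.index * Nat.card {t : G // orderOf t = 2} ^ 2 <
        Nat.card G * (Nat.card G + Nat.card {t : G // orderOf t = 2})) := by
  classical
  haveI := Fintype.ofFinite G
  haveI : Fact (Nat.Prime 2) := ⟨Nat.prime_two⟩
  by_contra hcon
  push_neg at hcon
  set N := Nat.card G with hN
  set n := Nat.card {t : G // orderOf t = 2} with hn
  have hnpos : 0 < n := by
    obtain ⟨t, ht⟩ := exists_prime_orderOf_dvd_card' (G := G) 2 (even_iff_two_dvd.1 heven)
    haveI : Nonempty {t : G // orderOf t = 2} := ⟨⟨t, ht⟩⟩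
    exact Nat.card_pos
  have hnotcentral : ∀ t : G, orderOf t = 2 → Subgroup.centralizer ({t} : Set G) ≠ ⊤ := by
    intro t ht htop
    have htc : t ∈ Subgroup.center G := Subgroup.mem_center_iff.2 fun g =>
      mem_centralizer_singleton.1 (htop.ge (Subgroup.mem_top g))
    obtain ⟨k, hk⟩ := hZ
    have := Subgroup.orderOf_dvd_natCard _ htc
    rw [ht] at this
    omega
  have hinv : ∀ x : G, orderOf x = 2 →
      N * (N + n) ≤ 2 * (Subgroup.centralizer ({x} : Set G)).index * n ^ 2 :=
    fun x hx => (hcon _ (hnotcentral x hx)).2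
  have hreal : ∀ x : G, IsConj x x⁻¹ → x * x ≠ 1 →
      N * (N + n) ≤ (Subgroup.centralizer ({x} : Set G)).index * n ^ 2 := by
    intro x hx hx1
    have hne : extendedCentralizer x ≠ ⊤ := by
      intro htop
      have h := card_extendedCentralizer hx hx1
      rw [htop, Subgroup.card_top, ← Subgroup.card_mul_index (Subgroup.centralizer ({x} : Set G)),
        mul_comm 2] at h
      have h2 := Nat.eq_of_mul_eq_mul_left Nat.card_pos h
      exact (hcon _ (fun h3 => by rw [h3, Subgroup.index_top] at h2; omega)).1 h2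
    have h1 := (hcon _ hne).2
    have h2 := card_extendedCentralizer hx hx1
    have h3 := Subgroup.card_mul_index (extendedCentralizer x)
    rw [← Subgroup.card_mul_index (Subgroup.centralizer ({x} : Set G)), h2] at h3
    have h4 : 2 * (extendedCentralizer x).index = (Subgroup.centralizer ({x} : Set G)).index := by
      apply Nat.eq_of_mul_eq_mul_left (n := Nat.card (Subgroup.centralizer ({x} : Set G))) Nat.card_pos
      rw [← h3]; ring
    rwa [h4] at h1
  set T := N + n with hT
  have hpt : ∀ x : G,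
      T * Nat.card {p : G × G // orderOf p.1 = 2 ∧ orderOf p.2 = 2 ∧ p.1 * p.2 = x}
        + (if orderOf x = 2 then 2 * T else 0)
      ≤ n ^ 2 + (if orderOf x = 2 then n ^ 2 else 0) + (if x = 1 then T * n else 0) -
          (if x = 1 then n ^ 2 else 0) := by
    intro x
    by_cases hx1 : x = 1
    · subst hx1
      have hc : Nat.card {p : G × G // orderOf p.1 = 2 ∧ orderOf p.2 = 2 ∧ p.1 * p.2 = (1:G)} = n :=
        Nat.card_congr
          { toFun := fun p => ⟨p.1.1, p.2.1⟩
            invFun := fun t => ⟨(t.1, t.1), t.2, t.2, mul_self t.2⟩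
            left_inv := by
              rintro ⟨⟨u, v⟩, hu, hv, h⟩
              simp only [Subtype.mk.injEq, Prod.mk.injEq, true_and]
              rw [← inv_eq (show orderOf u = 2 from hu)]; exact inv_eq_of_mul_eq_one_right h
            right_inv := fun t => rfl }
      rw [hc]; simp
    simp only [if_neg hx1, add_zero, Nat.sub_zero]
    by_cases hx2 : orderOf x = 2
    · simp only [if_pos hx2]
      have h1 := card_pairs_involution_le hx2
      have h2 := hinv x hx2
      have h3 := Subgroup.card_mul_index (Subgroup.centralizer ({x} : Set G))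
      rw [← hN] at h3
      refine Nat.le_of_mul_le_mul_left ?_ (show 0 < N from Nat.card_pos)
      calc N * (T * _ + 2 * T) = (N * T) * (_ + 2) := by ring
        _ ≤ (2 * (Subgroup.centralizer ({x} : Set G)).index * n ^ 2) *
              Nat.card (Subgroup.centralizer ({x} : Set G)) := Nat.mul_le_mul h2 h1
        _ = 2 * N * n ^ 2 := by rw [← h3]; ring
        _ = N * (n ^ 2 + n ^ 2) := by ring
    · simp only [if_neg hx2, add_zero]
      by_cases hr : IsConj x x⁻¹
      · have hxx : x * x ≠ 1 := fun h => hx2 (orderOf_of_sq h hx1)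
        have h2 := hreal x hr hxx
        have h3 := Subgroup.card_mul_index (Subgroup.centralizer ({x} : Set G))
        rw [← hN] at h3
        refine Nat.le_of_mul_le_mul_left ?_ (show 0 < N from Nat.card_pos)
        calc N * (T * _) = (N * T) * _ := by ring
          _ ≤ ((Subgroup.centralizer ({x} : Set G)).index * n ^ 2) *
              Nat.card (Subgroup.centralizer ({x} : Set G)) := Nat.mul_le_mul h2 (card_pairs_le x)
          _ = N * n ^ 2 := by rw [← h3]; ring
      · rw [card_pairs_not_real hr, mul_zero]; exact Nat.zero_le _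
  have hcount : ∀ c : ℕ, ∑ x : G, (if orderOf x = 2 then c else 0) = n * c := by
    intro c
    rw [← Finset.sum_filter, Finset.sum_const, smul_eq_mul, hn, Nat.card_eq_fintype_card,
      Fintype.card_subtype]
  have hs : ∑ x : G, (T * Nat.card {p : G × G // orderOf p.1 = 2 ∧ orderOf p.2 = 2 ∧ p.1 * p.2 = x}
      + (if orderOf x = 2 then 2 * T else 0) + (if x = 1 then n ^ 2 else 0)) ≤
      ∑ x : G, (n ^ 2 + (if orderOf x = 2 then n ^ 2 else 0) + (if x = 1 then T * n else 0)) := by
    refine Finset.sum_le_sum fun x _ => ?_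
    have h := hpt x
    by_cases hx : x = 1 <;> simp only [hx, if_true, if_false, orderOf_one] at h ⊢ <;>
      simp only [show ¬ (1 = 2) by norm_num, if_false, add_zero] at h ⊢ <;> omega
  simp only [Finset.sum_add_distrib, ← Finset.mul_sum, ← card_involution_sq, hcount,
    Finset.sum_const, Finset.card_univ, smul_eq_mul, Finset.sum_ite_eq', Finset.mem_univ,
    if_true, ← Nat.card_eq_fintype_card, ← hN, ← hn] at hs
  -- T n² + 2 T n + n² ≤ N n² + n³ + T n
  nlinarith [hs, Nat.mul_pos hnpos (show 0 < T from by omega), pow_pos hnpos 2]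

/-- A simple group with a proper subgroup of index `k` has order at most `k!`. -/
theorem card_le_factorial_of_index [IsSimpleGroup G] {H : Subgroup G} (hH : H ≠ ⊤) :
    Nat.card G ≤ H.index.factorial := by
  classical
  haveI := Fintype.ofFinite (G ⧸ H)
  have hker : Function.Injective (MulAction.toPermHom G (G ⧸ H)) := by
    rw [← MonoidHom.ker_eq_bot_iff, ← H.normalCore_eq_ker]
    rcases H.normalCore_normal.eq_bot_or_eq_top with h | h
    · exact h
    · exact absurd (top_unique (h ▸ H.normalCore_le)) hH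
  calc Nat.card G ≤ Nat.card (Equiv.Perm (G ⧸ H)) := Nat.card_le_card_of_injective _ hker
    _ = H.index.factorial := by
      rw [Nat.card_eq_fintype_card, Fintype.card_perm, ← Nat.card_eq_fintype_card]; rfl

/-- The class of an involution `t` shows `|G| ≤ |C(t)| · n`. -/
theorem card_le_centralizer_mul {t : G} (ht : orderOf t = 2) :
    Nat.card G ≤ Nat.card (Subgroup.centralizer ({t} : Set G)) *
      Nat.card {t : G // orderOf t = 2} := by
  rw [← Subgroup.card_mul_index (Subgroup.centralizer ({t} : Set G))]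
  refine Nat.mul_le_mul_left _ (Nat.card_le_card_of_injective (α := G ⧸ _)
    (fun q => ⟨q.out * t * q.out⁻¹, by rw [orderOf_conj, ht]⟩) fun a b h => ?_)
  simp only [Subtype.mk.injEq] at h
  rw [← a.out_eq, ← b.out_eq]
  apply QuotientGroup.eq.2
  rw [mem_centralizer_singleton]
  calc a.out⁻¹ * b.out * t = a.out⁻¹ * (b.out * t * b.out⁻¹) * b.out := by group
    _ = a.out⁻¹ * (a.out * t * a.out⁻¹) * b.out := by rw [h]
    _ = t * (a.out⁻¹ * b.out) := by group

end Cfsg.Agent.Involution
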