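/-
Cyclic Sylow 2-subgroups give subgroups of index 2.

Main results (namespace `Cfsg.Agent.Involution`):
* `exists_index_two` : even order, cyclic Sylow 2-subgroup ⇒ subgroup of index 2
* `exists_index_two_of_centralizer` : the same if a Sylow 2-subgroup of `C(x)` is cyclic
-/
import Cfsg.Agent.Lib.Involution.Basic

namespace Cfsg.Agent.Involution

open scoped Pointwise

variable {G : Type*} [Group G] [Finite G]

theorem exists_index_two (heven : Even (Nat.card G)) (T : Sylow 2 G)
    (hT : IsCyclic (T : Subgroup G)) : ∃ H : Subgroup G, H.index = 2 := by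
  classical
  haveI : Fact (Nat.Prime 2) := ⟨Nat.prime_two⟩
  haveI := hT
  have hmin : (Nat.card G).minFac = 2 := (Nat.minFac_eq_two_iff _).2 (even_iff_two_dvd.1 heven)
  have hN : Subgroup.normalizer ((T : Subgroup G) : Set G) ≤ Subgroup.centralizer (T : Set G) :=
    IsCyclic.normalizer_le_centralizer hmin hT
  have hcompl := MonoidHom.ker_transferSylow_isComplement' T hN
  set N := (MonoidHom.transferSylow T hN).ker with hNdef
  have hindex : N.index = Nat.card (T : Subgroup G) := by
    have h1 := hcompl.card_mul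
    rw [← Subgroup.card_mul_index N] at h1
    exact (Nat.eq_of_mul_eq_mul_left Nat.card_pos h1).symm
  have h2 : 2 ∣ Nat.card (T : Subgroup G) :=
    T.dvd_card_of_dvd_card (even_iff_two_dvd.1 heven)
  obtain ⟨g, hg⟩ := IsCyclic.exists_generator (α := (T : Subgroup G))
  have hord : orderOf g = Nat.card (T : Subgroup G) := orderOf_eq_card_of_forall_mem_zpowers hg
  refine ⟨(Subgroup.zpowers (g ^ 2)).comap (MonoidHom.transferSylow T hN), ?_⟩
  have hsurj : Function.Surjective (MonoidHom.transferSylow T hN) := by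
    have hc : Nat.card (MonoidHom.transferSylow T hN).range = Nat.card (T : Subgroup G) := by
      rw [← Subgroup.index_ker, hindex]
    exact MonoidHom.range_eq_top.1 (Subgroup.card_eq_iff_eq_top _ |>.1 hc)
  rw [Subgroup.index_comap_of_surjective _ hsurj]
  have h3 := Subgroup.card_mul_index (Subgroup.zpowers (g ^ 2))
  rw [Nat.card_zpowers, orderOf_pow, hord, Nat.gcd_eq_right h2] at h3
  refine Nat.eq_of_mul_eq_mul_left ?_ (h3.trans (Nat.div_mul_cancel h2).symm)
  exact Nat.div_pos (Nat.le_of_dvd Nat.card_pos h2) two_pos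

theorem exists_index_two_of_centralizer_aux {x : G} (hx : orderOf x = 2) (C : Subgroup G)
    (hC : ∀ y, y ∈ C ↔ y * x = x * y) (S : Sylow 2 C) (hS : IsCyclic (S : Subgroup C)) :
    ∃ H : Subgroup G, H.index = 2 := by
  classical
  haveI : Fact (Nat.Prime 2) := ⟨Nat.prime_two⟩
  have heven : Even (Nat.card G) := even_iff_two_dvd.2 (hx ▸ orderOf_dvd_natCard x)
  have hxC : x ∈ C := (hC x).2 rfl
  -- `x` is central in `C`, so lies in `S`
  have hxS : (⟨x, hxC⟩ : C) ∈ S := by
    have hp : IsPGroup 2 (Subgroup.zpowers (⟨x, hxC⟩ : C)) :=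
      IsPGroup.of_card (n := 1) (by rw [Nat.card_zpowers, Subgroup.orderOf_mk, hx, pow_one])
    have hnorm : Subgroup.zpowers (⟨x, hxC⟩ : C) ≤
        Subgroup.normalizer ((S : Subgroup C) : Set C) := by
      rw [Subgroup.zpowers_le]
      refine Subgroup.centralizer_le_normalizer _ (Subgroup.mem_centralizer_iff.2 fun y _ => ?_)
      exact Subtype.ext ((hC _).1 y.2)
    have := S.is_maximal' (hp.to_sup_of_normal_right' S.isPGroup' hnorm) le_sup_right
    have h := le_sup_left (b := (S : Subgroup C)) (Subgroup.mem_zpowers (⟨x, hxC⟩ : C))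
    rw [this] at h
    exact h
  set S' := (S : Subgroup C).map C.subtype with hS'
  have hS'p : IsPGroup 2 S' := S.isPGroup'.map _
  obtain ⟨T, hT⟩ := hS'p.exists_le_sylow
  haveI := hS
  have hS'c : IsCyclic S' :=
    isCyclic_of_surjective (Subgroup.equivMapOfInjective _ _ C.subtype_injective) (MulEquiv.surjective _)
  have heq : S' = (T : Subgroup G) := by
    by_contra hne
    haveI := T.isPGroup'.isNilpotent
    have hlt := Group.normalizerCondition_of_isNilpotent (S'.subgroupOf T) (by
      rw [lt_top_iff_ne_top, Ne, Subgroup.subgroupOf_eq_top]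
      exact fun h => hne (le_antisymm hT h))
    obtain ⟨n, hn, hnS⟩ := SetLike.exists_of_lt hlt
    apply hnS
    rw [Subgroup.mem_subgroupOf]
    -- `n` fixes the unique involution of `S'`, so lies in `C`
    have hxS' : x ∈ S' := ⟨⟨x, hxC⟩, hxS, rfl⟩
    have hconj : ∀ y ∈ S', (n : G) * y * (n : G)⁻¹ ∈ S' := fun y hy => by
      have := (Subgroup.mem_normalizer_iff.1 hn ⟨y, hT hy⟩).1 (Subgroup.mem_subgroupOf.2 hy)
      simpa [Subgroup.mem_subgroupOf] using this
    have hfix : (n : G) * x * (n : G)⁻¹ = x := by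
      have h1 := hconj x hxS'
      have hu : ∀ a b : S', orderOf a = 2 → orderOf b = 2 → a = b := by
        intro a b ha hb
        haveI := Fintype.ofFinite S'
        have hf := IsCyclic.card_orderOf_eq_totient (α := S') (d := 2)
        have h2 : 2 ∣ Fintype.card S' := ha ▸ orderOf_dvd_card
        have hone := hf h2
        rw [Nat.totient_two, Finset.card_eq_one] at hone
        obtain ⟨c, hc⟩ := hone
        have ha' : a ∈ ({c} : Finset S') := hc ▸ Finset.mem_filter.2 ⟨Finset.mem_univ a, ha⟩
        have hb' : b ∈ ({c} : Finset S') := hc ▸ Finset.mem_filter.2 ⟨Finset.mem_univ b, hb⟩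
        rw [Finset.mem_singleton] at ha' hb'
        rw [ha', hb']
      exact congrArg Subtype.val (hu ⟨_, h1⟩ ⟨x, hxS'⟩
        (by rw [Subgroup.orderOf_mk, orderOf_conj, hx]) (by rw [Subgroup.orderOf_mk, hx]))
    have hnC : (n : G) ∈ C := (hC _).2 (mul_inv_eq_iff_eq_mul.1 hfix)
    have hnN : Subgroup.zpowers (⟨(n : G), hnC⟩ : C) ≤
        Subgroup.normalizer ((S : Subgroup C) : Set C) := by
      rw [Subgroup.zpowers_le, Subgroup.mem_normalizer_iff]
      intro y
      have key : ∀ z : C, z ∈ (S : Subgroup C) ↔ (z : G) ∈ S' := fun z =>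
        ⟨fun h => ⟨z, h, rfl⟩, fun ⟨w, hw, e⟩ => (C.subtype_injective e) ▸ hw⟩
      rw [key, key]
      constructor
      · exact fun h => hconj _ h
      · intro h
        have hyT : (y : G) ∈ (T : Subgroup G) := by
          have := (T : Subgroup G).mul_mem ((T : Subgroup G).mul_mem
            ((T : Subgroup G).inv_mem n.2) (hT h)) n.2
          simpa [mul_assoc] using this
        exact Subgroup.mem_subgroupOf.1
          ((Subgroup.mem_normalizer_iff.1 hn ⟨_, hyT⟩).2 (Subgroup.mem_subgroupOf.2 h))
    have hp : IsPGroup 2 (Subgroup.zpowers (⟨(n : G), hnC⟩ : C)) := by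
      obtain ⟨k, hk⟩ := T.isPGroup' n
      obtain ⟨j, -, hj⟩ := (Nat.dvd_prime_pow Nat.prime_two).1 (orderOf_dvd_iff_pow_eq_one.2 hk)
      apply IsPGroup.of_card (n := j)
      rw [Nat.card_zpowers, Subgroup.orderOf_mk, Subgroup.orderOf_coe]
      exact hj
    have hle := S.is_maximal' (hp.to_sup_of_normal_right' S.isPGroup' hnN) le_sup_right
    have h := le_sup_left (b := (S : Subgroup C)) (Subgroup.mem_zpowers (⟨(n : G), hnC⟩ : C))
    rw [hle] at h
    exact ⟨⟨(n : G), hnC⟩, h, rfl⟩
  exact exists_index_two heven T (heq ▸ hS'c)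

theorem exists_index_two_of_centralizer {x : G} (hx : orderOf x = 2)
    (S : Sylow 2 ↥(Subgroup.centralizer ({x} : Set G)))
    (hS : IsCyclic (S : Subgroup ↥(Subgroup.centralizer ({x} : Set G)))) :
    ∃ H : Subgroup G, H.index = 2 :=
  exists_index_two_of_centralizer_aux hx _ (fun _ => mem_centralizer_singleton) S hS

end Cfsg.Agent.Involution
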