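import Cfsg.Agent.Lib.ZStarPrimePower.Basic
import Cfsg.Agent.Lib.Cores.Basic

/-!
Consequences of the `Z*` theorem for an involution alone in a Sylow 2-subgroup
(`ZStarPrimePower.UniqueInvolutionZStar`): groups of 2-rank one (`exists_central_mod_odd_of_rank_one`),
groups generated by a class of involutions with products of prime-power order (`isNilpotent_commutator`).
-/

set_option autoImplicit false

namespace Cfsg.Agent.Involution

open Subgroup
open scoped commutatorElement

universe u

variable {G : Type u} [Group G] [Finite G]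

omit [Finite G] in
theorem isKleinFour_of_commute {z t : G} (hz : orderOf z = 2) (ht : orderOf t = 2) (hne : t ≠ z)
    (hc : Commute z t) : ∃ E : Subgroup G, IsKleinFour E := by
  classical
  have hzz := mul_self hz
  have htt := mul_self ht
  have hz1 : z ≠ 1 := fun h => by simp [h] at hz
  have ht1 : t ≠ 1 := fun h => by simp [h] at ht
  have hztz : z * t * z = t := by rw [hc.eq, mul_assoc, hzz, mul_one]
  have htzt : t * (z * t) = z := by rw [← mul_assoc, ← hc.eq, mul_assoc, htt, mul_one]
  let E : Subgroup G :=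
  { carrier := {1, z, t, z * t}
    one_mem' := Or.inl rfl
    mul_mem' := by
      rintro a b (rfl | rfl | rfl | rfl) (rfl | rfl | rfl | rfl) <;>
        simp [hzz, htt, hc.eq.symm, ← mul_assoc, hztz, hc.symm.eq] <;>
        simp [mul_assoc, htt, htzt, hzz]
    inv_mem' := by
      rintro a (rfl | rfl | rfl | rfl) <;>
        simp [inv_eq hz, inv_eq ht, hc.eq] }
  have hmem : ∀ x, x ∈ E ↔ x = 1 ∨ x = z ∨ x = t ∨ x = z * t := fun x => Iff.rfl
  refine ⟨E, ?_, ?_⟩
  · show Nat.card ({1, z, t, z * t} : Set G) = 4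
    have h1 : z * t ≠ 1 := fun h => hne (by rw [← inv_eq hz]; exact eq_inv_of_mul_eq_one_right h)
    have h2 : z * t ≠ z := by simp [ht1]
    have h3 : z * t ≠ t := by simp [hz1]
    rw [Nat.card_coe_set_eq, Set.ncard_insert_of_notMem (by simp [hz1.symm, ht1.symm, h1.symm]),
      Set.ncard_insert_of_notMem (by simp [hne.symm, h2.symm]),
      Set.ncard_pair h3.symm]
  · haveI : Nontrivial E := ⟨⟨z, Or.inr (Or.inl rfl)⟩, 1, fun h => hz1 (congrArg Subtype.val h)⟩
    refine (Monoid.exponent_eq_prime_iff Nat.prime_two).2 ?_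
    rintro ⟨x, hx⟩ hx1
    rw [← Subgroup.orderOf_coe]
    rcases (hmem x).1 hx with rfl | rfl | rfl | rfl
    · exact absurd rfl hx1
    · exact hz
    · exact ht
    · refine orderOf_eq_prime (hp := ⟨Nat.prime_two⟩) ?_ (fun h => hne ?_)
      · rw [sq, mul_assoc, htzt, hzz]
      · rw [← inv_eq hz]; exact eq_inv_of_mul_eq_one_right h

/-- A group of even order and 2-rank one has an involution central modulo a normal subgroup of odd
order. -/
theorem exists_central_mod_odd_of_rank_one (hU : ZStarPrimePower.UniqueInvolutionZStar.{u})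
    (heven : Even (Nat.card G)) (hrank : ∀ E : Subgroup G, ¬ IsKleinFour E) :
    ∃ z : G, orderOf z = 2 ∧ ∃ N : Subgroup G, N.Normal ∧ Odd (Nat.card N) ∧
      ∀ g : G, z * g * z⁻¹ * g⁻¹ ∈ N := by
  haveI : Fact (Nat.Prime 2) := ⟨Nat.prime_two⟩
  obtain ⟨T⟩ : Nonempty (Sylow 2 G) := inferInstance
  haveI : Nontrivial (T : Subgroup G) := by
    rw [← Finite.one_lt_card_iff_nontrivial]
    exact lt_of_lt_of_le Nat.one_lt_two (Nat.le_of_dvd Nat.card_pos
      ((T.dvd_card_of_dvd_card (even_iff_two_dvd.1 heven))))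
  haveI := T.isPGroup'.center_nontrivial
  obtain ⟨k, hk, hcard⟩ := (T.isPGroup'.to_subgroup (center (T : Subgroup G))).nontrivial_iff_card.1 inferInstance
  obtain ⟨z, hz⟩ := exists_prime_orderOf_dvd_card' (G := center (T : Subgroup G)) 2
    (hcard ▸ dvd_pow_self 2 hk.ne')
  have hz2 : orderOf (((z : (T : Subgroup G))) : G) = 2 := by
    rw [Subgroup.orderOf_coe, Subgroup.orderOf_coe, hz]
  refine ⟨((z : (T : Subgroup G)) : G), hz2, hU G _ T hz2 (z : (T : Subgroup G)).2 fun t ht ht2 => ?_⟩
  by_contra hne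
  have hc : Commute ((z : (T : Subgroup G)) : G) t :=
    (congrArg Subtype.val (mem_center_iff.1 z.2 ⟨t, ht⟩)).symm
  obtain ⟨E, hE⟩ := isKleinFour_of_commute hz2 ht2 hne hc
  exact hrank E hE

/-- If a conjugacy class of involutions generates `G` and two of them always have a product of
`p`-power order, `p` odd, then `G'` is nilpotent. -/
theorem isNilpotent_commutator (hU : ZStarPrimePower.UniqueInvolutionZStar.{u}) {p : ℕ}
    (hp : p.Prime) (hodd : p ≠ 2) {D : Set G} (hinv : ∀ d ∈ D, orderOf d = 2)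
    (hconj : ∃ d ∈ D, D = conjugatesOf d) (hgen : Subgroup.closure D = ⊤)
    (hprod : ∀ x ∈ D, ∀ y ∈ D, x ≠ y → ∃ k : ℕ, orderOf (x * y) = p ^ k) :
    Group.IsNilpotent ↥(commutator G) := by
  haveI : Fact p.Prime := ⟨hp⟩
  obtain ⟨d, hd, rfl⟩ := hconj
  have hgoal := ZStarPrimePower.goal_of_unique_case hU hp hodd (hinv d hd) fun a ha b hb => by
    rcases eq_or_ne a b with rfl | hne
    · exact ⟨0, by rw [mul_self (hinv a ha), orderOf_one, pow_zero]⟩
    · exact hprod a ha b hb hne
  set N := Cfsg.pCore p G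
  haveI hN : N.Normal := Cfsg.Agent.Cores.pCore_normal p G
  have hzp : ∀ g : G, (QuotientGroup.mk' N g) ∈ zpowers (QuotientGroup.mk' N d) := by
    have h : Subgroup.closure (conjugatesOf d) ≤
        (zpowers (QuotientGroup.mk' N d)).comap (QuotientGroup.mk' N) := by
      refine (closure_le _).2 fun a ha => ?_
      have h1 : QuotientGroup.mk' N (a * d) = 1 := (QuotientGroup.eq_one_iff _).2 (hgoal a ha d hd)
      rw [map_mul, mul_eq_one_iff_eq_inv] at h1
      rw [SetLike.mem_coe, Subgroup.mem_comap, h1]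
      exact inv_mem (mem_zpowers _)
    exact fun g => h (hgen ▸ mem_top g)
  have hle : commutator G ≤ N := by
    rw [commutator_eq_closure, closure_le]
    rintro _ ⟨g, h, rfl⟩
    obtain ⟨i, hi⟩ := mem_zpowers_iff.1 (hzp g)
    obtain ⟨j, hj⟩ := mem_zpowers_iff.1 (hzp h)
    rw [SetLike.mem_coe, ← QuotientGroup.eq_one_iff]
    show QuotientGroup.mk' N ⁅g, h⁆ = 1
    rw [map_commutatorElement, ← hi, ← hj, commutatorElement_eq_one_iff_mul_comm]
    exact ((Commute.refl _).zpow_zpow i j).eq
  exact ((Cores.isPGroup_pCore p G).to_le hle).isNilpotent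

end Cfsg.Agent.Involution
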